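import Cfsg.Agent.H842.SevenSyl
import Cfsg.Agent.H843.Pat
import Cfsg.Agent.H841.Phi
import Cfsg.Agent.H256.Sep.FiData

/-!
# `Fi24'`: centralizers of elements of order `r ≥ 5` (helper48, for S2443)

`big_prime` : `|C(x)| ≤ 1814400` for every element `x` of prime order `r ≥ 5` of `Fi24` (and of `Fi24'`).
-/

set_option autoImplicit false
set_option Elab.async false
set_option maxRecDepth 100000
set_option linter.constructorNameAsVariable false

namespace Cfsg.Agent.H48.OreFi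

open Subgroup
open Cfsg Cfsg.Agent.Lib.PermNet Cfsg.Agent.Lib.PermNetPt Cfsg.Agent.Fischer.Fi24RepDef Cfsg.Agent.Fischer.Fi24Rep
open Cfsg.Agent.KFacts.FiTF.FixMask Cfsg.Agent.H843.Pat
open Cfsg.Agent.Fischer.Fi24RepOrb (UG)
open Cfsg.Agent.KFacts.FiTF.Pts
open Cfsg.Agent.R08.FiTwentyFour (L finite_Fi24)
open Cfsg.Spor (Fi24)
open Cfsg.Spor.Fi24 (Gen)

/-! ### Order 7 -/

/-- a word carrying the point 0 (the transposition `l`) to the point 29520 -/
def pw : List Gen := [.f, .e, .d, .h, .i, .d, .e, .b, .c, .d, .h, .e, .f, .g, .d, .e, .f, .c, .d, .e, .b, .c, .d, .h, .i, .f, .d, .e, .b, .c, .d, .h, .j, .g, .f, .e, .d, .c, .b, .k, .a, .l, .k]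

/-- the transposition `t` of the point 29520 -/
def tw : List Gen := pw ++ Gen.l :: pw.reverse

/-- words in `t`, `c` carrying the point to the points of the generators -/
def ls : List (List (Fin 3)) := [[2, 0, 2, 2, 0, 2, 2, 0, 1, 0, 2, 0, 2, 0, 2],
  [2, 0, 2, 2, 0, 2, 2, 0, 1, 0, 2, 0, 2, 0, 2],
  [0, 2, 2, 0, 2, 2, 0, 1, 0, 2, 0, 2, 0, 2],
  [1, 0, 2, 2, 0, 2, 2, 0, 1, 0, 2, 0, 2, 0, 2],
  [1, 1, 0, 2, 2, 0, 2, 2, 0, 1, 0, 2, 0, 2, 0, 2],
  [0, 2, 0, 2, 2, 2, 0, 1, 0, 1, 1, 1, 0, 1, 0, 2, 2, 0, 2],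
  [0, 1, 1, 1, 0, 2, 0, 1, 1, 0, 1, 1, 0, 1],
  [2, 2, 0, 2, 0, 1, 0, 1, 0, 1, 1, 0, 2, 0, 1, 1, 0, 1],
  [2, 2, 0, 1, 0, 1, 1, 0, 2, 2, 2, 0, 1, 0, 2, 0, 2, 0, 1, 0, 1, 1, 0, 1],
  [2, 0, 2, 0, 2, 2, 2, 0, 1, 1, 0, 1, 1, 1, 0, 2, 0, 1, 1, 1, 0, 1],
  [1, 1, 0, 1, 1, 0, 1, 1, 0, 1, 1, 1, 0, 1, 1, 1, 0, 1, 0, 1, 1],
  [0, 2, 2, 2, 0, 1, 0, 2, 2, 0, 2, 2, 0, 2, 0, 1, 0, 1, 0, 1, 0, 1],
  [0, 2, 2, 0, 2, 0, 2, 2, 0, 1, 0, 1, 1, 0, 2, 2, 2, 0, 1, 0, 1, 1, 1]]

theorem chk_p0 : chkPt (nw pw false) (pn .l) 29520 = true := by decide +kernel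

/-! The kernel check of `gen` is cut into its steps. -/

theorem kcG_1 : chkPt (nw (ex tw Cfsg.Agent.H842.SevenK.cw [2, 0, 2, 2, 0, 2, 2, 0, 1, 0, 2, 0, 2, 0, 2]) false) 29520
    (pn .l) = true := by decide +kernel

theorem kcG_2 : chkPt (nw (ex tw Cfsg.Agent.H842.SevenK.cw [0, 2, 2, 0, 2, 2, 0, 1, 0, 2, 0, 2, 0, 2]) false) 29520
    (pn .k) = true := by decide +kernel

theorem kcG_3 : chkPt (nw (ex tw Cfsg.Agent.H842.SevenK.cw [1, 0, 2, 2, 0, 2, 2, 0, 1, 0, 2, 0, 2, 0, 2]) false) 29520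
    (pn .a) = true := by decide +kernel

theorem kcG_4 : chkPt (nw (ex tw Cfsg.Agent.H842.SevenK.cw [1, 1, 0, 2, 2, 0, 2, 2, 0, 1, 0, 2, 0, 2, 0, 2]) false) 29520
    (pn .b) = true := by decide +kernel

theorem kcG_5 : chkPt (nw (ex tw Cfsg.Agent.H842.SevenK.cw [0, 2, 0, 2, 2, 2, 0, 1, 0, 1, 1, 1, 0, 1, 0, 2, 2, 0, 2]) false) 29520
    (pn .c) = true := by decide +kernel

theorem kcG_6 : chkPt (nw (ex tw Cfsg.Agent.H842.SevenK.cw [0, 1, 1, 1, 0, 2, 0, 1, 1, 0, 1, 1, 0, 1]) false) 29520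
    (pn .d) = true := by decide +kernel

theorem kcG_7 : chkPt (nw (ex tw Cfsg.Agent.H842.SevenK.cw [2, 2, 0, 2, 0, 1, 0, 1, 0, 1, 1, 0, 2, 0, 1, 1, 0, 1]) false) 29520
    (pn .e) = true := by decide +kernel

theorem kcG_8 : chkPt (nw (ex tw Cfsg.Agent.H842.SevenK.cw [2, 2, 0, 1, 0, 1, 1, 0, 2, 2, 2, 0, 1, 0, 2, 0, 2, 0, 1, 0, 1, 1, 0, 1]) false) 29520
    (pn .f) = true := by decide +kernel

theorem kcG_9 : chkPt (nw (ex tw Cfsg.Agent.H842.SevenK.cw [2, 0, 2, 0, 2, 2, 2, 0, 1, 1, 0, 1, 1, 1, 0, 2, 0, 1, 1, 1, 0, 1]) false) 29520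
    (pn .g) = true := by decide +kernel

theorem kcG_10 : chkPt (nw (ex tw Cfsg.Agent.H842.SevenK.cw [1, 1, 0, 1, 1, 0, 1, 1, 0, 1, 1, 1, 0, 1, 1, 1, 0, 1, 0, 1, 1]) false) 29520
    (pn .j) = true := by decide +kernel

theorem kcG_11 : chkPt (nw (ex tw Cfsg.Agent.H842.SevenK.cw [0, 2, 2, 2, 0, 1, 0, 2, 2, 0, 2, 2, 0, 2, 0, 1, 0, 1, 0, 1, 0, 1]) false) 29520
    (pn .h) = true := by decide +kernel

theorem kcG_12 : chkPt (nw (ex tw Cfsg.Agent.H842.SevenK.cw [0, 2, 2, 0, 2, 0, 2, 2, 0, 1, 0, 1, 1, 0, 2, 2, 2, 0, 1, 0, 1, 1, 1]) false) 29520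
    (pn .i) = true := by decide +kernel

/-- the check for an explicit list of generators -/
noncomputable def kcRun (tw xw : List Gen) (p0 : ℕ) (g : List Gen) (ls : List (List (Fin 3))) : Bool :=
  (List.rec (motive := fun _ => List (List (Fin 3)) → Bool) (fun _ => true)
    (fun x _ ih ls => List.rec (motive := fun _ => Bool) false
      (fun l ls' _ => Bool.rec false (ih ls') (chkPt (nw (ex tw xw l) false) p0 (pn x))) ls) g ls : Bool)

theorem kcRun_eq (tw xw : List Gen) (p0 : ℕ) (ls : List (List (Fin 3))) : genB tw xw p0 ls = kcRun tw xw p0 gl ls := rfl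

theorem kcRun_nil (tw xw : List Gen) (p0 : ℕ) (ls : List (List (Fin 3))) : kcRun tw xw p0 [] ls = true := rfl

/-- one step of the check -/
theorem kcStep {tw xw : List Gen} {p0 : ℕ} {l : List (Fin 3)} {x : Gen} {g : List Gen} {ls : List (List (Fin 3))}
    (h1 : chkPt (nw (ex tw xw l) false) p0 (pn x) = true) (h2 : kcRun tw xw p0 g ls = true) :
    kcRun tw xw p0 (x :: g) (l :: ls) = true := by
  have h : kcRun tw xw p0 (x :: g) (l :: ls) =
      Bool.rec false (kcRun tw xw p0 g ls) (chkPt (nw (ex tw xw l) false) p0 (pn x)) := rfl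
  rw [h, h1]
  exact h2

theorem gl_eq : gl = [.l, .l, .k, .a, .b, .c, .d, .e, .f, .g, .j, .h, .i] := rfl

theorem kcAll : kcRun tw Cfsg.Agent.H842.SevenK.cw 29520 gl ls = true := by
  rw [gl_eq, ls]
  refine kcStep kcG_1 (kcStep kcG_1 (kcStep kcG_2 (kcStep kcG_3 (kcStep kcG_4 (kcStep kcG_5 (kcStep kcG_6
    (kcStep kcG_7 (kcStep kcG_8 (kcStep kcG_9 (kcStep kcG_10 (kcStep kcG_11 (kcStep kcG_12 ?_))))))))))))
  exact kcRun_nil _ _ _ _

theorem gen : genB tw Cfsg.Agent.H842.SevenK.cw 29520 ls = true := (kcRun_eq _ _ _ _).trans kcAll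

theorem fin24 : Finite Fi24 := finite_Fi24

open Cfsg.Agent.H842.SevenSyl in
/-- **order 7, no fixed transposition** -/
theorem card_c : Nat.card (centralizer ({c} : Set Fi24)) ≤ 306936 := by
  have := fin24
  have h0 : IsPt (Cfsg.Agent.KFacts.FiTF.Defs.tr pw .l) 29520 := isPt_tr chk_p0
  have h0' : IsPt (word tw) 29520 := h0
  have hmem : word tw ∈ L := h0'.mem
  rw [← Cfsg.Agent.R08.FiTwentyFour.ncard_L, ← Nat.card_coe_set_eq]
  refine Nat.card_le_card_of_injective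
    (fun g : centralizer ({c} : Set Fi24) => (⟨(g : Fi24) * word tw * (g : Fi24)⁻¹,
      Cfsg.Agent.R08.FiTwentyFour.conj hmem (g : Fi24)⟩ : L)) ?_
  intro g h hgh
  have h1 : (g : Fi24) * word tw * (g : Fi24)⁻¹ = (h : Fi24) * word tw * (h : Fi24)⁻¹ := congrArg Subtype.val hgh
  have hg := mem_centralizer_singleton_iff.1 g.2
  have hh := mem_centralizer_singleton_iff.1 h.2
  set z : Fi24 := (h : Fi24)⁻¹ * g with hz
  have hzc : z * c = c * z := by
    have e1 : Commute (h : Fi24) c := hh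
    have e2 : Commute (g : Fi24) c := hg
    exact (e1.inv_left.mul_left e2).eq
  have hzt : z * word tw = word tw * z := by
    rw [hz]
    calc (h : Fi24)⁻¹ * g * word tw = (h : Fi24)⁻¹ * (g * word tw * (g : Fi24)⁻¹) * g := by group
      _ = (h : Fi24)⁻¹ * (h * word tw * (h : Fi24)⁻¹) * g := by rw [h1]
      _ = word tw * ((h : Fi24)⁻¹ * g) := by group
  have h2 : z = 1 := eq_one_of_gen gen h0' hzc ((h0'.comm_iff z).1 hzt)
  apply Subtype.ext
  rw [hz] at h2
  exact (inv_mul_eq_one.1 h2).symm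

theorem card_conj {G : Type*} [Group G] [Finite G] {x y : G} (h : IsConj x y) :
    Nat.card (centralizer ({x} : Set G)) = Nat.card (centralizer ({y} : Set G)) := by
  obtain ⟨g, rfl⟩ := isConj_iff.1 h
  refine Nat.card_congr ?_
  refine ⟨fun a => ⟨g * a * g⁻¹, ?_⟩, fun a => ⟨g⁻¹ * a * g, ?_⟩, fun a => ?_, fun a => ?_⟩
  · rw [mem_centralizer_singleton_iff]
    have h1 := mem_centralizer_singleton_iff.1 a.2
    calc g * a * g⁻¹ * (g * x * g⁻¹) = g * (a * x) * g⁻¹ := by group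
      _ = g * (x * a) * g⁻¹ := by rw [h1]
      _ = g * x * g⁻¹ * (g * a * g⁻¹) := by group
  · rw [mem_centralizer_singleton_iff]
    have h1 := mem_centralizer_singleton_iff.1 a.2
    calc g⁻¹ * a * g * x = g⁻¹ * (a * (g * x * g⁻¹)) * g := by group
      _ = g⁻¹ * (g * x * g⁻¹ * a) * g := by rw [h1]
      _ = x * (g⁻¹ * a * g) := by group
  · apply Subtype.ext; show g⁻¹ * (g * a * g⁻¹) * g = a; group
  · apply Subtype.ext; show g * (g⁻¹ * a * g) * g⁻¹ = a; group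

/-- elements generating the same subgroup have the same centralizer -/
theorem card_zpowers {G : Type*} [Group G] {x y : G} (h : zpowers x = zpowers y) :
    centralizer ({x} : Set G) = centralizer ({y} : Set G) := by
  rw [← centralizer_closure, ← zpowers_eq_closure, h, zpowers_eq_closure, centralizer_closure]

open Cfsg.Agent.H842.SevenSyl in
theorem seven {x : Fi24} (hx : orderOf x = 7) : Nat.card (centralizer ({x} : Set Fi24)) ≤ 1814400 := by
  have := fin24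
  obtain ⟨g, hg⟩ := cases7 (X := zpowers x) (by rw [Nat.card_zpowers, hx])
  have h1 : (zpowers x).map (MulAut.conj g).toMonoidHom = zpowers (g * x * g⁻¹) := by
    rw [MonoidHom.map_zpowers]; rfl
  rw [h1] at hg
  rw [card_conj (isConj_iff.2 ⟨g, rfl⟩ : IsConj x (g * x * g⁻¹))]
  rcases hg with hg | hg
  · rw [card_zpowers hg]
    exact (Nat.le_of_dvd (by norm_num) card_cent_y7).trans (by norm_num)
  · rw [card_zpowers hg]
    exact card_c.trans (by norm_num)

/-! ### Order 5 -/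

open Cfsg.Agent.LThreeFi24.FiveConj Cfsg.Agent.LThreeFi24.SNine in
theorem five {x : Fi24} (hx : orderOf x = 5) : Nat.card (centralizer ({x} : Set Fi24)) ≤ 1814400 := by
  have := fin24
  obtain ⟨g, hg⟩ := exists_conj_five hx
  rw [card_conj (isConj_iff.2 ⟨g, hg⟩)]
  have hsurj : ∀ n : centralizer ({y0} : Set Fi24), ∃ a : Fin 5 × Equiv.Perm (Fin 9),
      (n : Fi24) = y0 ^ (a.1 : ℕ) * Cfsg.Agent.H841.Five.Phi a.2 := by
    intro n
    obtain ⟨i, σ, hi, -, h⟩ := Cfsg.Agent.H841.Five.exists_of_comm (mem_centralizer_singleton_iff.1 n.2)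
    exact ⟨(⟨i, hi⟩, σ), h⟩
  choose f hf using hsurj
  have h1 : Nat.card (centralizer ({y0} : Set Fi24)) ≤ Nat.card (Fin 5 × Equiv.Perm (Fin 9)) := by
    refine Nat.card_le_card_of_injective f fun a b hab => ?_
    apply Subtype.ext
    rw [hf a, hf b, hab]
  refine h1.trans (le_of_eq ?_)
  rw [Nat.card_prod, Nat.card_perm, Nat.card_fin, Nat.card_fin]
  rfl

/-! ### All primes `≥ 5` -/

theorem card_zpowers_eq {G : Type*} [Group G] (x : G) :
    Nat.card (centralizer (zpowers x : Set G)) = Nat.card (centralizer ({x} : Set G)) := by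
  rw [zpowers_eq_closure, centralizer_closure]

/-- **`r ≥ 5`** in `Fi24` -/
theorem big_prime24 {r : ℕ} (hr : r.Prime) (h5 : 5 ≤ r) {x : Fi24} (hx : orderOf x = r) :
    Nat.card (centralizer ({x} : Set Fi24)) ≤ 1814400 := by
  have := fin24
  have hd : r ∣ 2510411418381323442585600 := by
    rw [← Cfsg.Agent.H843.Fi24N.card_Fi24, ← hx]
    exact orderOf_dvd_natCard x
  have hf : (2510411418381323442585600 : ℕ) = 2 ^ 22 * 3 ^ 16 * 5 ^ 2 * 7 ^ 3 * 11 * 13 * 17 * 23 * 29 := by norm_num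
  have key : r = 5 ∨ r = 7 ∨ r = 11 ∨ r = 13 ∨ r = 17 ∨ r = 23 ∨ r = 29 := by
    rw [hf] at hd
    have hp : ∀ {q k : ℕ}, q.Prime → r ∣ q ^ k → r = q := fun hq h =>
      (Nat.prime_dvd_prime_iff_eq hr hq).1 (hr.dvd_of_dvd_pow h)
    rcases (Nat.Prime.dvd_mul hr).1 hd with hd | h
    · rcases (Nat.Prime.dvd_mul hr).1 hd with hd | h
      · rcases (Nat.Prime.dvd_mul hr).1 hd with hd | h
        · rcases (Nat.Prime.dvd_mul hr).1 hd with hd | h
          · rcases (Nat.Prime.dvd_mul hr).1 hd with hd | h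
            · rcases (Nat.Prime.dvd_mul hr).1 hd with hd | h
              · rcases (Nat.Prime.dvd_mul hr).1 hd with hd | h
                · rcases (Nat.Prime.dvd_mul hr).1 hd with h | h
                  · have := hp Nat.prime_two h; omega
                  · have := hp Nat.prime_three h; omega
                · have := hp (by norm_num) h; omega
              · have := hp (by norm_num) h; omega
            · have := (Nat.prime_dvd_prime_iff_eq hr (by norm_num)).1 h; omega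
          · have := (Nat.prime_dvd_prime_iff_eq hr (by norm_num)).1 h; omega
        · have := (Nat.prime_dvd_prime_iff_eq hr (by norm_num)).1 h; omega
      · have := (Nat.prime_dvd_prime_iff_eq hr (by norm_num)).1 h; omega
    · have := (Nat.prime_dvd_prime_iff_eq hr (by norm_num)).1 h; omega
  have hX : Nat.card (zpowers x) = r := by rw [Nat.card_zpowers, hx]
  rcases key with rfl | rfl | rfl | rfl | rfl | rfl | rfl
  · exact five hx
  · exact seven hx
  · rw [← card_zpowers_eq]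
    exact (Nat.le_of_dvd (by norm_num) (Cfsg.Agent.H256.Sep.FiData.data11 hX).1).trans (by norm_num)
  · rw [← card_zpowers_eq]
    exact (Nat.le_of_dvd (by norm_num) (Cfsg.Agent.H256.Sep.FiData.data13 hX).1).trans (by norm_num)
  · rw [← card_zpowers_eq]
    exact (Nat.le_of_dvd (by norm_num) (Cfsg.Agent.H256.Sep.FiData.data17 hX).1).trans (by norm_num)
  · rw [← card_zpowers_eq]
    exact (Nat.le_of_dvd (by norm_num) (Cfsg.Agent.H256.Sep.FiData.data23 hX).1).trans (by norm_num)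
  · rw [← card_zpowers_eq]
    exact (Nat.le_of_dvd (by norm_num) (Cfsg.Agent.H256.Sep.FiData.data29 hX).1).trans (by norm_num)

/-- **`r ≥ 5`** in `Fi24'` -/
theorem big_prime {r : ℕ} (hr : r.Prime) (h5 : 5 ≤ r) {x : Spor.Fi24'} (hx : orderOf x = r) :
    Nat.card (centralizer ({x} : Set Spor.Fi24')) ≤ 1814400 := by
  have := fin24
  refine le_trans ?_ (big_prime24 hr h5 (x := (x : Fi24)) (by rw [Subgroup.orderOf_coe]; exact hx))
  refine Nat.card_le_card_of_injective (fun g : centralizer ({x} : Set Spor.Fi24') =>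
    (⟨((g : Spor.Fi24') : Fi24), mem_centralizer_singleton_iff.2
      (congrArg Subtype.val (mem_centralizer_singleton_iff.1 g.2))⟩ : centralizer ({(x : Fi24)} : Set Fi24))) ?_
  intro a b hab
  exact Subtype.ext (Subtype.ext (congrArg (fun u : centralizer ({(x : Fi24)} : Set Fi24) => (u : Fi24)) hab))

end Cfsg.Agent.H48.OreFi
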