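import Cfsg.Agent.H65.Ore.Split
import Cfsg.Agent.H48.OreFi.BigPrime
import Cfsg.Agent.H30.IMFi24
import Cfsg.Agent.S1698

/-!
# `Fi24'`: the frame of the commutator and of the four-involution rows (helper48, for S2443, S4171)

* `comm_of_cent` : the sieve at `p = 29`: from the degree bounds `57477` (residue `± 1`) and `113000` (residue `± 14`) every
  `g` with `|C(g)| ≤ 78382080` is a commutator;
* `comm_of_cent'` : the same with degree bounds `DN`, `DX` and a numerical check;
* `cases` : the case split (any predicate `P`): centralizer `≤ 78382080`, 2-elements, elements of order 3, order 9, `z s`;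
* `cases'` : the same with `P` for the elements of order `3 ^ b`, `b ≥ 2`, instead of the bound for the order 9.
-/

set_option autoImplicit false
set_option maxRecDepth 100000

namespace Cfsg.Agent.H48.OreFi

open Subgroup
open Cfsg Cfsg.Agent.Characters

theorem finite' : Finite Spor.Fi24' :=
  Nat.finite_of_card_ne_zero (by rw [Cfsg.Agent.R08.FiTwentyFour.card_commutator]; norm_num)

theorem cent_pow_le {G : Type*} [Group G] [Finite G] (g : G) (k : ℕ) :
    Nat.card (centralizer ({g} : Set G)) ≤ Nat.card (centralizer ({g ^ k} : Set G)) := by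
  apply Subgroup.card_le_of_le
  intro y hy
  rw [mem_centralizer_singleton_iff] at hy ⊢
  exact (Commute.pow_right (show Commute y g from hy) k).eq

/-- the arithmetic: an order without prime divisor `≥ 5` -/
theorem two_three {n : ℕ} (hn : n ≠ 0) (h : ∀ r, r.Prime → 5 ≤ r → ¬ r ∣ n) :
    (∃ a, n = 2 ^ a) ∨ n = 3 ∨ 9 ∣ n ∨ 6 ∣ n := by
  by_cases h3 : 3 ∣ n
  · by_cases h2 : 2 ∣ n
    · exact Or.inr (Or.inr (Or.inr ((Nat.Coprime.mul_dvd_of_dvd_of_dvd (by norm_num) h2 h3))))
    · by_cases h9 : 9 ∣ n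
      · exact Or.inr (Or.inr (Or.inl h9))
      · right; left
        obtain ⟨m, rfl⟩ := h3
        have hm : m = 1 := by
          by_contra hm1
          obtain ⟨r, hr, hrm⟩ := Nat.exists_prime_and_dvd hm1
          have hr5 : r < 5 := by
            by_contra hcon
            exact h r hr (by omega) (hrm.trans (dvd_mul_left m 3))
          have h23 : r = 2 ∨ r = 3 := by
            have := hr.two_le
            interval_cases r
            · left; rfl
            · right; rfl
            · exact absurd hr (by norm_num)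
          rcases h23 with rfl | rfl
          · exact h2 (hrm.trans (dvd_mul_left m 3))
          · exact h9 (by obtain ⟨k, rfl⟩ := hrm; exact ⟨k, by ring⟩)
        rw [hm]
  · left
    obtain ⟨a, m, hm, hnm⟩ := Nat.exists_eq_pow_mul_and_not_dvd hn 2 (by norm_num)
    refine ⟨a, ?_⟩
    have hm1 : m = 1 := by
      by_contra hm1
      obtain ⟨r, hr, hrm⟩ := Nat.exists_prime_and_dvd hm1
      have hrn : r ∣ n := by rw [hnm]; exact hrm.trans (dvd_mul_left m _)
      have hr5 : r < 5 := by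
        by_contra hcon
        exact h r hr (by omega) hrn
      have h23 : r = 2 ∨ r = 3 := by
        have := hr.two_le
        interval_cases r
        · left; rfl
        · right; rfl
        · exact absurd hr (by norm_num)
      rcases h23 with rfl | rfl
      · exact hm hrm
      · exact h3 hrn
    rw [hnm, hm1, mul_one]

/-- **the case split** -/
theorem cases {P : Spor.Fi24' → Prop}
    (h1 : ∀ g : Spor.Fi24', Nat.card (centralizer ({g} : Set Spor.Fi24')) ≤ 78382080 → P g)
    (h2 : ∀ (g : Spor.Fi24') (n : ℕ), g ^ 2 ^ n = 1 → P g) (h3 : ∀ g : Spor.Fi24', g ^ 3 = 1 → P g)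
    (h9 : ∀ g : Spor.Fi24', orderOf g = 9 → Nat.card (centralizer ({g} : Set Spor.Fi24')) ≤ 78382080)
    (h6 : ∀ z s : Spor.Fi24', orderOf z = 2 → orderOf s = 3 → Commute z s →
      Nat.card (centralizer ({z} : Set Spor.Fi24') ⊓ centralizer ({s} : Set Spor.Fi24') : Subgroup Spor.Fi24') ≤
        78382080) (g : Spor.Fi24') : P g := by
  have := finite'
  have hn : orderOf g ≠ 0 := (orderOf_pos g).ne'
  by_cases hr : ∃ r, r.Prime ∧ 5 ≤ r ∧ r ∣ orderOf g
  · obtain ⟨r, hr, h5, k, hk⟩ := hr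
    have hk0 : k ≠ 0 := by
      rintro rfl
      exact hn (by rw [hk, mul_zero])
    refine h1 g ((cent_pow_le g k).trans ((big_prime hr h5 ?_).trans (by norm_num)))
    rw [orderOf_pow' g hk0, hk, Nat.gcd_eq_right (dvd_mul_left k r), Nat.mul_div_cancel _ (Nat.pos_of_ne_zero hk0)]
  · push Not at hr
    rcases two_three hn hr with ⟨a, ha⟩ | h | ⟨k, hk⟩ | ⟨k, hk⟩
    · exact h2 g a (by rw [← ha, pow_orderOf_eq_one])
    · exact h3 g (by rw [← h, pow_orderOf_eq_one])
    · have hk0 : k ≠ 0 := by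
        rintro rfl
        exact hn (by rw [hk, mul_zero])
      refine h1 g ((cent_pow_le g k).trans (h9 _ ?_))
      rw [orderOf_pow' g hk0, hk, Nat.gcd_eq_right (dvd_mul_left k 9), Nat.mul_div_cancel _ (Nat.pos_of_ne_zero hk0)]
    · have hk0 : k ≠ 0 := by
        rintro rfl
        exact hn (by rw [hk, mul_zero])
      have ho : ∀ a b : ℕ, a * b = 6 → orderOf (g ^ (a * k)) = b := by
        intro a b hab
        have ha : a ≠ 0 := by rintro rfl; omega
        have hb : a * k ∣ orderOf g := ⟨b, by rw [hk, ← hab]; ring⟩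
        rw [orderOf_pow' g (mul_ne_zero ha hk0), Nat.gcd_eq_right hb, hk, ← hab,
          show a * b * k = b * (a * k) by ring, Nat.mul_div_cancel _ (Nat.pos_of_ne_zero (mul_ne_zero ha hk0))]
      refine h1 g (le_trans (Subgroup.card_le_of_le (K := centralizer ({g ^ (3 * k)} : Set Spor.Fi24') ⊓
        centralizer ({g ^ (2 * k)} : Set Spor.Fi24')) ?_) (h6 _ _ (ho 3 2 rfl) (ho 2 3 rfl)
          ((Commute.refl g).pow_pow _ _)))
      intro y hy
      rw [mem_centralizer_singleton_iff] at hy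
      exact ⟨mem_centralizer_singleton_iff.2 (Commute.pow_right (show Commute y g from hy) _).eq,
        mem_centralizer_singleton_iff.2 (Commute.pow_right (show Commute y g from hy) _).eq⟩

/-- **the sieve** -/
theorem comm_of_cent
    (hDN : ∀ χ : IrrCharacter Spor.Fi24', (χ : Spor.Fi24' → ℂ) ≠ 1 →
      (charDegree (χ : Spor.Fi24' → ℂ) % 29 = 1 ∨ charDegree (χ : Spor.Fi24' → ℂ) % 29 = 28) →
        57477 ≤ charDegree (χ : Spor.Fi24' → ℂ))
    (hDX : ∀ χ : IrrCharacter Spor.Fi24', (χ : Spor.Fi24' → ℂ) ≠ 1 →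
      (charDegree (χ : Spor.Fi24' → ℂ) % 29 = 14 ∨ charDegree (χ : Spor.Fi24' → ℂ) % 29 = 15) →
        113000 ≤ charDegree (χ : Spor.Fi24' → ℂ))
    {g : Spor.Fi24'} (hc : Nat.card (centralizer ({g} : Set Spor.Fi24')) ≤ 78382080) :
    ∃ a b : Spor.Fi24', g = a * b * a⁻¹ * b⁻¹ := by
  have := finite'
  have : IsSimpleGroup Spor.Fi24' := Cfsg.Agent.S1698.result.1
  obtain ⟨x, -, hx, hC, -⟩ := Cfsg.Agent.H30.IMFi24.exists_x
  have hG : ¬ IsMulCommutative Spor.Fi24' := by
    intro h
    have h1 : centralizer ({x} : Set Spor.Fi24') = ⊤ := by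
      rw [eq_top_iff]
      intro y _
      rw [mem_centralizer_singleton_iff]
      exact h.is_comm.comm y x
    rw [h1, Subgroup.card_top, Cfsg.Agent.R08.FiTwentyFour.card_commutator] at hC
    omega
  exact H65.Ore.comm_all (p := 29) hG (by norm_num) Cfsg.Agent.R08.FiTwentyFour.card_commutator hx hC 14 2 141
    (by decide +kernel) (DN := 57477) (DX := 113000) hDN hDX (by norm_num) (by norm_num) hc

theorem not_comm : ¬ IsMulCommutative Spor.Fi24' := by
  obtain ⟨x, -, hx, hC, -⟩ := Cfsg.Agent.H30.IMFi24.exists_x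
  intro h
  have h1 : centralizer ({x} : Set Spor.Fi24') = ⊤ := by
    rw [eq_top_iff]
    intro y _
    rw [mem_centralizer_singleton_iff]
    exact h.is_comm.comm y x
  rw [h1, Subgroup.card_top, Cfsg.Agent.R08.FiTwentyFour.card_commutator] at hC
  omega

/-- **the sieve**, with any degree bounds -/
theorem comm_of_cent' {DN DX c : ℕ}
    (hnum : (c - 1) * ((14 - 1) * 2 * DX ^ 2 + (29 - 14) ^ 2 * DN ^ 2) < 2 * DN ^ 2 * DX ^ 2)
    (hnum' : (141 - 1) * (29 - 1) < (min DN DX) ^ 2)
    (hDN : ∀ χ : IrrCharacter Spor.Fi24', (χ : Spor.Fi24' → ℂ) ≠ 1 →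
      (charDegree (χ : Spor.Fi24' → ℂ) % 29 = 1 ∨ charDegree (χ : Spor.Fi24' → ℂ) % 29 = 28) →
        DN ≤ charDegree (χ : Spor.Fi24' → ℂ))
    (hDX : ∀ χ : IrrCharacter Spor.Fi24', (χ : Spor.Fi24' → ℂ) ≠ 1 →
      (charDegree (χ : Spor.Fi24' → ℂ) % 29 = 14 ∨ charDegree (χ : Spor.Fi24' → ℂ) % 29 = 15) →
        DX ≤ charDegree (χ : Spor.Fi24' → ℂ))
    {g : Spor.Fi24'} (hc : Nat.card (centralizer ({g} : Set Spor.Fi24')) ≤ c) :
    ∃ a b : Spor.Fi24', g = a * b * a⁻¹ * b⁻¹ := by
  have := finite'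
  have : IsSimpleGroup Spor.Fi24' := Cfsg.Agent.S1698.result.1
  obtain ⟨x, -, hx, hC, -⟩ := Cfsg.Agent.H30.IMFi24.exists_x
  exact H65.Ore.comm_all (p := 29) not_comm (by norm_num) Cfsg.Agent.R08.FiTwentyFour.card_commutator hx hC 14 2 141
    (by decide +kernel) hDN hDX hnum hnum' hc

/-- the arithmetic, second form -/
theorem two_three' {n : ℕ} (hn : n ≠ 0) (h : ∀ r, r.Prime → 5 ≤ r → ¬ r ∣ n) :
    (∃ a, n = 2 ^ a) ∨ n = 3 ∨ (∃ b, 2 ≤ b ∧ n = 3 ^ b) ∨ 6 ∣ n := by
  by_cases h2 : 2 ∣ n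
  · by_cases h3 : 3 ∣ n
    · exact Or.inr (Or.inr (Or.inr ((Nat.Coprime.mul_dvd_of_dvd_of_dvd (by norm_num) h2 h3))))
    · rcases two_three hn h with h' | h' | h' | h'
      · exact Or.inl h'
      · exact absurd (by rw [h']) h3
      · exact absurd ((by norm_num : (3 : ℕ) ∣ 9).trans h') h3
      · exact absurd ((by norm_num : (3 : ℕ) ∣ 6).trans h') h3
  · obtain ⟨b, m, hm, hnm⟩ := Nat.exists_eq_pow_mul_and_not_dvd hn 3 (by norm_num)
    have hm1 : m = 1 := by
      by_contra hm1
      obtain ⟨r, hr, hrm⟩ := Nat.exists_prime_and_dvd hm1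
      have hrn : r ∣ n := by rw [hnm]; exact hrm.trans (dvd_mul_left m _)
      have hr5 : r < 5 := by
        by_contra hcon
        exact h r hr (by omega) hrn
      have h23 : r = 2 ∨ r = 3 := by
        have := hr.two_le
        interval_cases r
        · left; rfl
        · right; rfl
        · exact absurd hr (by norm_num)
      rcases h23 with rfl | rfl
      · exact h2 hrn
      · exact hm hrm
    rw [hm1, mul_one] at hnm
    rcases Nat.lt_or_ge b 2 with hb | hb
    · interval_cases b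
      · exact Or.inl ⟨0, by rw [hnm, pow_zero, pow_zero]⟩
      · exact Or.inr (Or.inl (by rw [hnm, pow_one]))
    · exact Or.inr (Or.inr (Or.inl ⟨b, hb, hnm⟩))

/-- **the case split**, second form -/
theorem cases' {P : Spor.Fi24' → Prop}
    (h1 : ∀ g : Spor.Fi24', Nat.card (centralizer ({g} : Set Spor.Fi24')) ≤ 78382080 → P g)
    (h2 : ∀ (g : Spor.Fi24') (n : ℕ), g ^ 2 ^ n = 1 → P g) (h3 : ∀ g : Spor.Fi24', g ^ 3 = 1 → P g)
    (h9 : ∀ (g : Spor.Fi24') (b : ℕ), 2 ≤ b → orderOf g = 3 ^ b → P g)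
    (h6 : ∀ z s : Spor.Fi24', orderOf z = 2 → orderOf s = 3 → Commute z s →
      Nat.card (centralizer ({z} : Set Spor.Fi24') ⊓ centralizer ({s} : Set Spor.Fi24') : Subgroup Spor.Fi24') ≤
        78382080) (g : Spor.Fi24') : P g := by
  have := finite'
  have hn : orderOf g ≠ 0 := (orderOf_pos g).ne'
  by_cases hr : ∃ r, r.Prime ∧ 5 ≤ r ∧ r ∣ orderOf g
  · obtain ⟨r, hr, h5, k, hk⟩ := hr
    have hk0 : k ≠ 0 := by
      rintro rfl
      exact hn (by rw [hk, mul_zero])
    refine h1 g ((cent_pow_le g k).trans ((big_prime hr h5 ?_).trans (by norm_num)))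
    rw [orderOf_pow' g hk0, hk, Nat.gcd_eq_right (dvd_mul_left k r), Nat.mul_div_cancel _ (Nat.pos_of_ne_zero hk0)]
  · push Not at hr
    rcases two_three' hn hr with ⟨a, ha⟩ | h | ⟨b, hb, hk⟩ | ⟨k, hk⟩
    · exact h2 g a (by rw [← ha, pow_orderOf_eq_one])
    · exact h3 g (by rw [← h, pow_orderOf_eq_one])
    · exact h9 g b hb hk
    · have hk0 : k ≠ 0 := by
        rintro rfl
        exact hn (by rw [hk, mul_zero])
      have ho : ∀ a b : ℕ, a * b = 6 → orderOf (g ^ (a * k)) = b := by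
        intro a b hab
        have ha : a ≠ 0 := by rintro rfl; omega
        have hb : a * k ∣ orderOf g := ⟨b, by rw [hk, ← hab]; ring⟩
        rw [orderOf_pow' g (mul_ne_zero ha hk0), Nat.gcd_eq_right hb, hk, ← hab,
          show a * b * k = b * (a * k) by ring, Nat.mul_div_cancel _ (Nat.pos_of_ne_zero (mul_ne_zero ha hk0))]
      refine h1 g (le_trans (Subgroup.card_le_of_le (K := centralizer ({g ^ (3 * k)} : Set Spor.Fi24') ⊓
        centralizer ({g ^ (2 * k)} : Set Spor.Fi24')) ?_) (h6 _ _ (ho 3 2 rfl) (ho 2 3 rfl)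
          ((Commute.refl g).pow_pow _ _)))
      intro y hy
      rw [mem_centralizer_singleton_iff] at hy
      exact ⟨mem_centralizer_singleton_iff.2 (Commute.pow_right (show Commute y g from hy) _).eq,
        mem_centralizer_singleton_iff.2 (Commute.pow_right (show Commute y g from hy) _).eq⟩

end Cfsg.Agent.H48.OreFi
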