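import Cfsg.Agent.H48.OreFi.Nine
import Cfsg.Agent.H48.OreFi.WFourK

/-!
# `Fi24`: the elements of order 3 of width 0 have no cube roots (helper48)

`w = l k zc c2`, of order 3, commutes with no transposition.  The members of the class of `l` under `C(w)` are among the
six transpositions inverting `l k` or `zc c2`; an element `h` with `h ^ 3 = w` permutes them, so `w` commutes with `l`.

* `no_cube` : `h ^ 3` is not conjugate to `X 4` or its inverse;
* `wd_four` : `Wd 4`.
-/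

set_option autoImplicit false
set_option maxRecDepth 100000

namespace Cfsg.Agent.H48.WFour

open Cfsg Cfsg.Agent.Lib.PermNet Cfsg.Agent.Lib.PermNetOrbit Cfsg.Agent.Lib.PermNetPt
open Cfsg.Agent.Fischer.Fi24RepDef Cfsg.Agent.Fischer.Fi24Rep
open Cfsg.Agent.Fischer.Fi24Spider (word_append word_cons word_nil)
open Cfsg.Agent.Fischer.Fi24RepOrb (UG)
open Cfsg.Agent.KFacts.FiTF.Pts Cfsg.Agent.KFacts.FiTF.FixMask
open Cfsg.Agent.KFacts.FiTF.Defs (tr)
open Cfsg.Agent.R08.FiTwentyFour (L)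
open Cfsg.Agent.Fischer480.Defs (FGroup)
open Cfsg.Agent.H840.Wd Cfsg.Agent.H840.Lk
open Cfsg.Agent.H840.GK (wa wb wc wd wr wt)
open Cfsg.Agent.H48.OreFi.WFourK
open Cfsg.Agent.H842.ThreeCl (X)
open Cfsg.Spor (Fi24)
open Cfsg.Spor.Fi24 (Gen)
open Subgroup

/-! ### Three-transpositions -/

section

variable {G : Type*} [Group G] {D : Set G}

/-- `d` noncommuting with `b`: `b d b` does not commute with `d` -/
theorem not_comm_br (hF : FGroup D) {b d : G} (hb : b ∈ D) (hd : d ∈ D) (hc : Commute d (b * d * b)) :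
    Commute d b := by
  have fd := Cfsg.Agent.H840.NormX.fd hF
  by_contra hn
  have hbr : b * d * b = d * b * d := fd.braid b hb d hd fun h => hn h.symm
  apply hn
  rw [hbr] at hc
  have e : d * (d * b * d) = d * b * d * d := hc.eq
  have sd := fd.sq d hd
  have e1 : d * (d * b * d) = b * d := by
    rw [← mul_assoc, ← mul_assoc, sd, one_mul]
  have e2 : d * b * d * d = d * b := by rw [mul_assoc, sd, mul_one]
  rw [e1, e2] at e
  exact e.symm

/-- **a transposition commuting with its image under a product of two noncommuting transpositions is fixed** -/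
theorem fix_of_comm (hF : FGroup D) {a b d : G} (ha : a ∈ D) (hb : b ∈ D) (hn : ¬ Commute a b) (hd : d ∈ D)
    (hc : Commute d ((a * b) * d * (a * b)⁻¹)) : (a * b) * d * (a * b)⁻¹ = d := by
  have fd := Cfsg.Agent.H840.NormX.fd hF
  have sa := fd.sq a ha
  have sb := fd.sq b hb
  have ia : a⁻¹ = a := inv_eq_of_mul_eq_one_left sa
  have ib : b⁻¹ = b := inv_eq_of_mul_eq_one_left sb
  have e0 : (a * b) * d * (a * b)⁻¹ = a * (b * d * b) * a := by
    rw [mul_inv_rev, ia, ib]; simp only [mul_assoc]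
  rw [e0] at hc ⊢
  have done : Commute d a → Commute d b → a * (b * d * b) * a = d := by
    intro h1 h2
    rw [← h2.eq, mul_assoc d b b, sb, mul_one, ← h1.eq, mul_assoc, sa, mul_one]
  -- conjugating by `a`
  have hc' : Commute (a * d * a) (b * d * b) := by
    show a * d * a * (b * d * b) = b * d * b * (a * d * a)
    have e1 : d * (a * (b * d * b) * a) = a * (b * d * b) * a * d := hc.eq
    calc a * d * a * (b * d * b) = a * (d * (a * (b * d * b) * a)) * a := by
          simp only [mul_assoc, sa, mul_one]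
      _ = a * (a * (b * d * b) * a * d) * a := by rw [e1]
      _ = (a * a) * (b * d * b) * (a * d * a) := by simp only [mul_assoc]
      _ = b * d * b * (a * d * a) := by rw [sa, one_mul]
  by_cases h2 : Commute d b
  · have e2 : b * d * b = d := by rw [← h2.eq, mul_assoc, sb, mul_one]
    rw [e2] at hc
    exact done (not_comm_br hF ha hd hc) h2
  · by_cases h1 : Commute d a
    · have e2 : a * d * a = d := by rw [← h1.eq, mul_assoc, sa, mul_one]
      rw [e2] at hc'
      exact absurd (not_comm_br hF hb hd hc') h2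
    · exfalso
      apply hn
      have sd := fd.sq d hd
      have b1 : a * d * a = d * a * d := fd.braid a ha d hd fun h => h1 h.symm
      have b2 : b * d * b = d * b * d := fd.braid b hb d hd fun h => h2 h.symm
      rw [b1, b2] at hc'
      have e3 : d * a * d * (d * b * d) = d * b * d * (d * a * d) := hc'.eq
      have e4 : ∀ x y : G, d * x * d * (d * y * d) = d * (x * y) * d := by
        intro x y
        calc d * x * d * (d * y * d) = d * x * (d * d) * y * d := by simp only [mul_assoc]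
          _ = d * (x * y) * d := by rw [sd, mul_one]; simp only [mul_assoc]
      rw [e4, e4] at e3
      exact mul_left_cancel (mul_right_cancel e3)

end

/-! ### The element of width 0 -/

/-- the class of transpositions -/
theorem fg : FGroup (L : Set Fi24) := Cfsg.Agent.H49.Four.TEight.fgroup24

/-- the element of width 0 -/
noncomputable def w : Fi24 := word ww

theorem word_zW : word zW = zc := by
  rw [zc_word]
  exact (eq_of_eqB Cfsg.Agent.H840.LkK.z_eq).symm

theorem word_cW : word cW = c2 := rfl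

theorem w_eq : w = (gen .l * gen .k) * (zc * c2) := by
  unfold w ww
  rw [word_append, word_append, word_zW, word_cW, word_cons, word_single]

theorem lz : Commute (gen .l) zc := zc_Dlk.2.1
theorem kz : Commute (gen .k) zc := zc_Dlk.2.2
theorem lc : Commute (gen .l) c2 := c2_Dlk.2.1
theorem kc : Commute (gen .k) c2 := c2_Dlk.2.2

theorem comm_AB : Commute (gen .l * gen .k) (zc * c2) :=
  (lz.mul_right lc).mul_left (kz.mul_right kc)

theorem w3 : w ^ 3 = 1 := by
  have fd := Cfsg.Agent.H840.NormX.fd fg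
  rw [w_eq, comm_AB.mul_pow, Cfsg.Agent.H840.NormX.cube fd (gen_mem .l) (gen_mem .k) not_comm_lk,
    Cfsg.Agent.H840.NormX.cube fd zc_mem c2_mem nc_zc2, one_mul]

/-- the points of `w` -/
theorem rw_pts : (rho w 0 = 307872 ∧ rho w 307872 = 307840 ∧ rho w 307840 = 0) ∧
    (rho w 23 = 25345 ∧ rho w 25345 = 25367 ∧ rho w 25367 = 23) := by
  have h := chk_w
  simp only [Bool.and_eq_true] at h
  obtain ⟨h1, h2, h3, h4, h5, h6⟩ := h
  exact ⟨⟨rho_of_chkPt h1, rho_of_chkPt h2, rho_of_chkPt h3⟩, rho_of_chkPt h4, rho_of_chkPt h5, rho_of_chkPt h6⟩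

theorem isPt_l : IsPt (gen .l) 0 := isPt_gen .l
theorem isPt_k : IsPt (gen .k) 307872 := isPt_gen .k

theorem w_l : w * gen .l * w⁻¹ = gen .k := isPt_l.conj_eq isPt_k rw_pts.1.1

theorem w_zc : w * zc * w⁻¹ = c2 := isPt_zc.conj_eq isPt_c2 rw_pts.2.1

/-- the subgroup -/
def H1 : Subgroup Fi24 := centralizer ({gen .l * gen .k} : Set Fi24) ⊓ centralizer ({zc * c2} : Set Fi24)

theorem mem_H1 {g : Fi24} : g ∈ H1 ↔ Commute g (gen .l * gen .k) ∧ Commute g (zc * c2) := by
  rw [H1, mem_inf, mem_centralizer_singleton_iff, mem_centralizer_singleton_iff]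
  rfl

theorem H1_w {g : Fi24} (h : g ∈ H1) : Commute g w := by
  rw [w_eq]
  exact (mem_H1.1 h).1.mul_right (mem_H1.1 h).2

theorem w_mem : w ∈ H1 := by
  rw [mem_H1, w_eq]
  exact ⟨(Commute.refl _).mul_left comm_AB.symm, comm_AB.mul_left (Commute.refl _)⟩

theorem mem_of {u : List Gen} (h : ∀ x ∈ u, x ∈ Cfsg.Agent.H840.LkK.AL)
    (hf : chkPt (nw u false) 25345 25345 = true) : word u ∈ H1 := by
  have h1 : word u ∈ Clz := by
    rw [Clz_eq]
    exact word_mem_cl h
  have h2 : Commute (word u) c2 := (isPt_c2.comm_iff _).2 (rho_of_chkPt hf)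
  have h3 := mem_Clk.1 (mem_inf.1 h1).1
  have h4 : Commute (word u) zc := mem_centralizer_singleton_iff.1 (mem_inf.1 h1).2
  have h5 : Commute (word u) (gen .l) := h3.1
  have h6 : Commute (word u) (gen .k) := h3.2
  exact mem_H1.2 ⟨h5.mul_right h6, h4.mul_right h2⟩

theorem gw_mem (j : ℕ) : word (gw j) ∈ H1 := by
  have hf := Cfsg.Agent.H840.GK.fix
  simp only [Bool.and_eq_true] at hf
  obtain ⟨f1, f2, f3, f4, f5, f6⟩ := hf
  match j with
  | 0 =>
    show word [.l, .k] ∈ H1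
    rw [word_cons, word_single, mem_H1]
    exact ⟨Commute.refl _, comm_AB⟩
  | 1 =>
    show word (zW ++ cW) ∈ H1
    rw [word_append, word_zW, word_cW, mem_H1]
    exact ⟨comm_AB.symm, Commute.refl _⟩
  | 2 => exact mem_of (by decide) f1
  | 3 => exact mem_of (by decide) f2
  | 4 => exact mem_of (by decide) f3
  | 5 => exact mem_of (by decide) f4
  | 6 => exact mem_of (by decide) f5
  | (n + 7) => exact mem_of (u := wt) (by decide) f6

/-- **every transposition is conjugate under `H1` to one of fourteen** -/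
theorem cov {d : Fi24} {p : ℕ} (hd : IsPt d p) : ∃ g ∈ H1, rho g p ∈ ps := by
  have h1 : UG.testBit p = true := bit hd
  rw [← Nat.eq_of_beq_eq_true cover] at h1
  have hK : ∀ v ∈ nws (sc.map gw), wperm v ∈ H1.map rho := by
    intro v hv
    obtain ⟨u, hu, rfl⟩ := List.mem_map.1 hv
    obtain ⟨j, -, rfl⟩ := List.mem_map.1 hu
    exact ⟨word (gw j), gw_mem j, rho_word _⟩
  obtain ⟨x, ⟨g, hg, rfl⟩, h2⟩ := sat_spec (nws_ok _) hK 1 h1
  exact ⟨g, hg, (testBit_msk _ _).1 h2⟩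

/-- the six transpositions -/
def Six (t : Fi24) : Prop := t ∈ L ∧ (t * (gen .l * gen .k) * t⁻¹ = (gen .l * gen .k)⁻¹ ∨
  t * (zc * c2) * t⁻¹ = (zc * c2)⁻¹)

theorem Six.conj {t g : Fi24} (h : Six t) (hg : g ∈ H1) : Six (g * t * g⁻¹) := by
  have key : ∀ a : Fi24, Commute g a → t * a * t⁻¹ = a⁻¹ → (g * t * g⁻¹) * a * (g * t * g⁻¹)⁻¹ = a⁻¹ := by
    intro a hga h1
    have e1 : g⁻¹ * a * g = a := by rw [mul_assoc, ← hga.eq]; group
    calc (g * t * g⁻¹) * a * (g * t * g⁻¹)⁻¹ = g * (t * (g⁻¹ * a * g) * t⁻¹) * g⁻¹ := by group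
      _ = g * a⁻¹ * g⁻¹ := by rw [e1, h1]
      _ = a⁻¹ := by rw [hga.inv_right.eq, mul_assoc, mul_inv_cancel, mul_one]
  refine ⟨Cfsg.Agent.R08.FiTwentyFour.conj h.1 g, ?_⟩
  rcases h.2 with h1 | h1
  · exact Or.inl (key _ (mem_H1.1 hg).1 h1)
  · exact Or.inr (key _ (mem_H1.1 hg).2 h1)

theorem six_l : Six (gen .l) :=
  ⟨gen_mem _, Or.inl (Cfsg.Agent.H840.NormX.left_inverts (Cfsg.Agent.H840.NormX.fd fg) (gen_mem .l) (gen_mem .k))⟩

theorem six_zc : Six zc :=
  ⟨zc_mem, Or.inr (Cfsg.Agent.H840.NormX.left_inverts (Cfsg.Agent.H840.NormX.fd fg) zc_mem c2_mem)⟩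

/-- the six points -/
theorem six_of_pt {t : Fi24} {p : ℕ} (ht : IsPt t p)
    (hp : p = 0 ∨ p = 307872 ∨ p = 307840 ∨ p = 23 ∨ p = 25345 ∨ p = 25367) : Six t := by
  have step : ∀ {x y : Fi24} {a b : ℕ}, IsPt x a → rho w a = b → IsPt y b → Six x → Six y := by
    intro x y a b hx hr hy h
    rw [← hx.conj_eq hy hr]
    exact h.conj w_mem
  rcases hp with rfl | rfl | rfl | rfl | rfl | rfl
  · rw [ht.inj isPt_l]; exact six_l
  · exact step isPt_l rw_pts.1.1 ht six_l
  · exact step isPt_k rw_pts.1.2.1 ht (step isPt_l rw_pts.1.1 isPt_k six_l)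
  · rw [ht.inj isPt_zc]; exact six_zc
  · exact step isPt_zc rw_pts.2.1 ht six_zc
  · exact step isPt_c2 rw_pts.2.2.1 ht (step isPt_zc rw_pts.2.1 isPt_c2 six_zc)

theorem mem_ps {p : ℕ} (h : p ∈ ps) : (∃ i : Fin 8, p = rp i) ∨
    (p = 0 ∨ p = 307872 ∨ p = 307840 ∨ p = 23 ∨ p = 25345 ∨ p = 25367) := by
  simp only [ps, List.mem_cons, List.not_mem_nil, or_false] at h
  rcases h with rfl | rfl | rfl | rfl | rfl | rfl | rfl | rfl | h
  · exact Or.inl ⟨0, rfl⟩
  · exact Or.inl ⟨1, rfl⟩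
  · exact Or.inl ⟨2, rfl⟩
  · exact Or.inl ⟨3, rfl⟩
  · exact Or.inl ⟨4, rfl⟩
  · exact Or.inl ⟨5, rfl⟩
  · exact Or.inl ⟨6, rfl⟩
  · exact Or.inl ⟨7, rfl⟩
  · exact Or.inr h

theorem rho_q1 (i : Fin 8) : rho w (rp i) = q1 i := rho_of_chkPt (chk_1 i)
theorem rho_q2 (i : Fin 8) : rho w (q1 i) = q2 i := rho_of_chkPt (chk_2 i)

/-- the transposition at the point `rp i` -/
theorem isPt_rp (i : Fin 8) : IsPt (word (tw (rv i))) (rp i) := isPt_tr (x := .l) (chk_v i)

/-- **`w` commutes with no transposition** -/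
theorem width {d : Fi24} (hd : d ∈ L) : ¬ Commute w d := by
  intro hc
  obtain ⟨p, hp⟩ := exists_pt hd
  obtain ⟨g, hg, hps⟩ := cov hp
  have hc' : Commute w (g * d * g⁻¹) := by
    have hgw := H1_w hg
    show w * (g * d * g⁻¹) = g * d * g⁻¹ * w
    calc w * (g * d * g⁻¹) = (w * g) * d * g⁻¹ := by group
      _ = g * (w * d) * g⁻¹ := by rw [← hgw.eq]; group
      _ = g * d * (w * g⁻¹) := by rw [hc.eq]; group
      _ = g * d * g⁻¹ * w := by rw [← hgw.inv_left.eq]; group
  have hf : rho w (rho g p) = rho g p := ((hp.conj g).comm_iff w).1 hc'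
  rcases mem_ps hps with ⟨i, hi⟩ | h | h | h | h | h | h
  · rw [hi, rho_q1] at hf
    exact (show ∀ i : Fin 8, q1 i ≠ rp i by decide) i hf
  · rw [h, rw_pts.1.1] at hf; exact absurd hf (by norm_num)
  · rw [h, rw_pts.1.2.1] at hf; exact absurd hf (by norm_num)
  · rw [h, rw_pts.1.2.2] at hf; exact absurd hf (by norm_num)
  · rw [h, rw_pts.2.1] at hf; exact absurd hf (by norm_num)
  · rw [h, rw_pts.2.2.1] at hf; exact absurd hf (by norm_num)
  · rw [h, rw_pts.2.2.2] at hf; exact absurd hf (by norm_num)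

/-! ### The class of `l` under `C(w)` -/

theorem l_line : gen .l * (w * gen .l * w⁻¹) * gen .l = w * (w * gen .l * w⁻¹) * w⁻¹ := by
  have fd := Cfsg.Agent.H840.NormX.fd fg
  have sl := fd.sq _ (gen_mem .l)
  have sk := fd.sq _ (gen_mem .k)
  have il : (gen .l)⁻¹ = gen .l := inv_eq_of_mul_eq_one_left sl
  have ik : (gen .k)⁻¹ = gen .k := inv_eq_of_mul_eq_one_left sk
  rw [w_l, w_eq]
  have hB : Commute (zc * c2) (gen .k) := (kz.mul_right kc).symm
  calc gen .l * gen .k * gen .l = gen .l * gen .k * (gen .k * gen .k) * gen .l := by rw [sk, mul_one]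
    _ = gen .l * gen .k * gen .k * (gen .k * gen .l) := by simp only [mul_assoc]
    _ = gen .l * gen .k * gen .k * (gen .l * gen .k)⁻¹ := by rw [mul_inv_rev, il, ik]
    _ = gen .l * gen .k * (gen .k * (zc * c2)) * (zc * c2)⁻¹ * (gen .l * gen .k)⁻¹ := by group
    _ = gen .l * gen .k * ((zc * c2) * gen .k) * (zc * c2)⁻¹ * (gen .l * gen .k)⁻¹ := by rw [hB.eq]
    _ = gen .l * gen .k * (zc * c2) * gen .k * (gen .l * gen .k * (zc * c2))⁻¹ := by group

theorem l_prod : w * gen .l * w⁻¹ * gen .l * w = zc * c2 := by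
  have fd := Cfsg.Agent.H840.NormX.fd fg
  have sl := fd.sq _ (gen_mem .l)
  have sk := fd.sq _ (gen_mem .k)
  rw [w_l, w_eq]
  calc gen .k * gen .l * (gen .l * gen .k * (zc * c2)) = gen .k * (gen .l * gen .l) * gen .k * (zc * c2) := by
        simp only [mul_assoc]
    _ = zc * c2 := by rw [sl, mul_one, sk, one_mul]

theorem conj_line {h : Fi24} (hh : Commute h w) : (h * gen .l * h⁻¹) * (w * (h * gen .l * h⁻¹) * w⁻¹) *
    (h * gen .l * h⁻¹) = w * (w * (h * gen .l * h⁻¹) * w⁻¹) * w⁻¹ := by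
  have e : ∀ x : Fi24, w * (h * x * h⁻¹) * w⁻¹ = h * (w * x * w⁻¹) * h⁻¹ := by
    intro x
    calc w * (h * x * h⁻¹) * w⁻¹ = (w * h) * x * (w * h)⁻¹ := by group
      _ = (h * w) * x * (h * w)⁻¹ := by rw [hh.eq]
      _ = h * (w * x * w⁻¹) * h⁻¹ := by group
  rw [e, e, ← l_line]
  group

theorem conj_prod {h : Fi24} (hh : Commute h w) :
    w * (h * gen .l * h⁻¹) * w⁻¹ * (h * gen .l * h⁻¹) * w = (h * zc * h⁻¹) * (h * c2 * h⁻¹) := by
  have e : ∀ x : Fi24, w * (h * x * h⁻¹) * w⁻¹ = h * (w * x * w⁻¹) * h⁻¹ := by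
    intro x
    calc w * (h * x * h⁻¹) * w⁻¹ = (w * h) * x * (w * h)⁻¹ := by group
      _ = (h * w) * x * (h * w)⁻¹ := by rw [hh.eq]
      _ = h * (w * x * w⁻¹) * h⁻¹ := by group
  rw [e]
  calc h * (w * gen .l * w⁻¹) * h⁻¹ * (h * gen .l * h⁻¹) * w
      = h * (w * gen .l * w⁻¹ * gen .l) * (h⁻¹ * w) := by group
    _ = h * (w * gen .l * w⁻¹ * gen .l) * (w * h⁻¹) := by rw [hh.inv_left.eq]
    _ = h * (w * gen .l * w⁻¹ * gen .l * w) * h⁻¹ := by group
    _ = (h * zc * h⁻¹) * (h * c2 * h⁻¹) := by rw [l_prod]; group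

theorem comm_conj {h x y : Fi24} : Commute (h * x * h⁻¹) (h * y * h⁻¹) ↔ Commute x y := by
  have e : ∀ a b : Fi24, h * a * h⁻¹ * (h * b * h⁻¹) = h * (a * b) * h⁻¹ := by intro a b; group
  constructor
  · intro hc
    have h1 : h * x * h⁻¹ * (h * y * h⁻¹) = h * y * h⁻¹ * (h * x * h⁻¹) := hc.eq
    rw [e, e] at h1
    exact mul_left_cancel (mul_right_cancel h1)
  · intro hc
    show h * x * h⁻¹ * (h * y * h⁻¹) = h * y * h⁻¹ * (h * x * h⁻¹)
    rw [e, e, hc.eq]

theorem word_fw (i : Fin 8) : word (fw i) = w * word (tw (rv i)) * w⁻¹ * word (tw (rv i)) * w := by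
  unfold fw
  rw [word_append, word_append, word_append, word_append, word_reverse]
  show word ww * _ = _
  simp only [w, mul_assoc]

/-- a conjugate of `l` under `C(w)` is not at the point `rp i` -/
theorem not_rp {h : Fi24} (hh : Commute h w) (i : Fin 8) : ¬ IsPt (h * gen .l * h⁻¹) (rp i) := by
  intro ht
  have e0 : h * gen .l * h⁻¹ = word (tw (rv i)) := ht.inj (isPt_rp i)
  -- the line
  have h1 := conj_line hh
  rw [e0] at h1
  have p1 : IsPt (w * word (tw (rv i)) * w⁻¹) (q1 i) := (isPt_rp i).conj' (rho_q1 i)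
  have p2 : IsPt (w * (w * word (tw (rv i)) * w⁻¹) * w⁻¹) (q2 i) := p1.conj' (rho_q2 i)
  have inv : (word (tw (rv i)))⁻¹ = word (tw (rv i)) :=
    inv_eq_of_mul_eq_one_left (Cfsg.Agent.R08.FiTwentyFour.sq (isPt_rp i).mem)
  have p3 : IsPt (word (tw (rv i)) * (w * word (tw (rv i)) * w⁻¹) * word (tw (rv i))) (q3 i) := by
    have := p1.conj' (g := word (tw (rv i))) (rho_of_chkPt (chk_3 i))
    rwa [inv] at this
  rw [h1] at p3
  have hq : q2 i = q3 i := p2.uniq p3
  have hi : i = 6 ∨ i = 7 := (show ∀ i : Fin 8, q2 i = q3 i → i = 6 ∨ i = 7 by decide) i hq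
  -- the product
  have h2 := conj_prod hh
  rw [e0, ← word_fw] at h2
  have hz : h * zc * h⁻¹ ∈ L := Cfsg.Agent.R08.FiTwentyFour.conj zc_mem h
  have hc : h * c2 * h⁻¹ ∈ L := Cfsg.Agent.R08.FiTwentyFour.conj c2_mem h
  have hn : ¬ Commute (h * zc * h⁻¹) (h * c2 * h⁻¹) := fun h3 => nc_zc2 (comm_conj.1 h3)
  have key : ∀ (d : Fi24) (p q : ℕ), IsPt d p → rho (word (fw i)) p = q → rho d q = q → p = q := by
    intro d p q hd h3 h4
    have h5 : IsPt (word (fw i) * d * (word (fw i))⁻¹) q := hd.conj' h3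
    have h6 : Commute d (word (fw i) * d * (word (fw i))⁻¹) := (h5.comm_iff d).2 h4
    have h7 : word (fw i) * d * (word (fw i))⁻¹ = d := by
      rw [h2] at h6 ⊢
      exact fix_of_comm fg hz hc hn hd.mem h6
    rw [h7] at h5
    exact hd.uniq h5
  rcases hi with rfl | rfl
  · have h := chk_f6
    simp only [Bool.and_eq_true] at h
    exact absurd (key (gen .b) 193 5869 isPt_b (rho_of_chkPt h.1) (rho_gen_of h.2)) (by norm_num)
  · have h := chk_f7
    simp only [Bool.and_eq_true] at h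
    exact absurd (key (word (tw dv)) 10 20 (isPt_tr (x := .l) h.2.2) (rho_of_chkPt h.1) (rho_of_chkPt h.2.1))
      (by norm_num)

/-- **the class of `l` under `C(w)`** -/
theorem six_of_comm {h : Fi24} (hh : Commute h w) : Six (h * gen .l * h⁻¹) := by
  obtain ⟨p, hp⟩ := exists_pt (Cfsg.Agent.R08.FiTwentyFour.conj (gen_mem .l) h)
  obtain ⟨g, hg, hps⟩ := cov hp
  have hgh : Commute (g * h) w := (H1_w hg).mul_left hh
  have e : g * (h * gen .l * h⁻¹) * g⁻¹ = (g * h) * gen .l * (g * h)⁻¹ := by group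
  have hp' : IsPt ((g * h) * gen .l * (g * h)⁻¹) (rho g p) := by rw [← e]; exact hp.conj g
  have h6 : Six ((g * h) * gen .l * (g * h)⁻¹) := by
    rcases mem_ps hps with ⟨i, hi⟩ | hi
    · rw [hi] at hp'
      exact absurd hp' (not_rp hgh i)
    · exact six_of_pt hp' hi
  have h7 := h6.conj (H1.inv_mem hg)
  have e2 : g⁻¹ * ((g * h) * gen .l * (g * h)⁻¹) * g⁻¹⁻¹ = h * gen .l * h⁻¹ := by group
  rwa [e2] at h7

/-- **`w` is not a cube** -/
theorem not_cube (h : Fi24) : h ^ 3 ≠ w := by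
  intro he
  have hh : Commute h w := by rw [← he]; exact (Commute.refl h).pow_right 3
  classical
  let S : Finset Fi24 := {gen .l, gen .k, gen .l * gen .k * gen .l, zc, c2, zc * c2 * zc}
  have hS : S.card < (Finset.range 7).card := by
    rw [Finset.card_range]
    exact Nat.lt_succ_of_le Finset.card_le_six
  have hmap : ∀ i ∈ Finset.range 7, h ^ i * gen .l * (h ^ i)⁻¹ ∈ S := by
    intro i _
    obtain ⟨h1, h2⟩ := six_of_comm (hh.pow_left i)
    simp only [S, Finset.mem_insert, Finset.mem_singleton]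
    rcases h2 with h2 | h2
    · rcases Cfsg.Agent.H840.NormX.inv_three fg (gen_mem .l) (gen_mem .k) h1 not_comm_lk h2 with h3 | h3 | h3
      · exact Or.inl h3
      · exact Or.inr (Or.inl h3)
      · exact Or.inr (Or.inr (Or.inl h3))
    · rcases Cfsg.Agent.H840.NormX.inv_three fg zc_mem c2_mem h1 nc_zc2 h2 with h3 | h3 | h3
      · exact Or.inr (Or.inr (Or.inr (Or.inl h3)))
      · exact Or.inr (Or.inr (Or.inr (Or.inr (Or.inl h3))))
      · exact Or.inr (Or.inr (Or.inr (Or.inr (Or.inr h3))))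
  obtain ⟨i, hi, j, hj, hij, heq⟩ := Finset.exists_ne_map_eq_of_card_lt_of_maps_to hS hmap
  rw [Finset.mem_range] at hi hj
  have h9 : h ^ 9 = 1 := by
    rw [show (9 : ℕ) = 3 * 3 by norm_num, pow_mul, he, w3]
  have hwl : ¬ Commute w (gen .l) := width (gen_mem .l)
  -- a power commuting with `l`
  have key : ∀ i j : ℕ, i < j → j < 7 → h ^ i * gen .l * (h ^ i)⁻¹ = h ^ j * gen .l * (h ^ j)⁻¹ → False := by
    intro i j hij hj e
    have hc : Commute (h ^ (j - i)) (gen .l) := by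
      have e1 : h ^ j = h ^ i * h ^ (j - i) := by rw [← pow_add]; congr 1; omega
      rw [e1] at e
      have e2 : h ^ i * gen .l * (h ^ i)⁻¹ = h ^ i * (h ^ (j - i) * gen .l * (h ^ (j - i))⁻¹) * (h ^ i)⁻¹ := by
        rw [e]; group
      have e3 : gen .l = h ^ (j - i) * gen .l * (h ^ (j - i))⁻¹ := mul_left_cancel (mul_right_cancel e2)
      show h ^ (j - i) * gen .l = gen .l * h ^ (j - i)
      exact mul_inv_eq_iff_eq_mul.1 e3.symm
    have fin : ∀ d m q : ℕ, j - i = d → d * m = 9 * q + 3 → False := by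
      intro d m q hd hm
      apply hwl
      rw [← he]
      have e4 : h ^ 3 = (h ^ (j - i)) ^ m := by
        rw [← pow_mul, hd, hm, pow_add, pow_mul, h9, one_pow, one_mul]
      rw [e4]
      exact hc.pow_left m
    have hd : j - i = 1 ∨ j - i = 2 ∨ j - i = 3 ∨ j - i = 4 ∨ j - i = 5 ∨ j - i = 6 := by omega
    rcases hd with hd | hd | hd | hd | hd | hd
    · exact fin 1 3 0 hd (by norm_num)
    · exact fin 2 6 1 hd (by norm_num)
    · exact fin 3 1 0 hd (by norm_num)
    · exact fin 4 3 1 hd (by norm_num)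
    · exact fin 5 6 3 hd (by norm_num)
    · exact fin 6 2 1 hd (by norm_num)
  rcases Nat.lt_or_gt_of_ne hij with h1 | h1
  · exact key i j h1 hj heq
  · exact key j i h1 hi heq.symm

/-! ### The class -/

theorem w_ne_one : w ≠ 1 := by
  intro h
  exact width (gen_mem .l) (by rw [h]; exact Commute.one_left _)

/-- **`w` is conjugate to `X 4` or its inverse** -/
theorem w_X : ∃ y : Fi24, y * w * y⁻¹ = X 4 ∨ y * w * y⁻¹ = (X 4)⁻¹ := by
  have hfin : Finite Fi24 := Cfsg.Agent.R08.FiTwentyFour.finite_Fi24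
  obtain ⟨i, y, hy⟩ := Cfsg.Agent.H842.ThreeCl.all Cfsg.Agent.H49.Four.TEight.fgroup24'
    Cfsg.Agent.H49.Four.TEight.isT8 w3 w_ne_one
  have h1 := OreFi.NineA.width_of hy
  have h2 : Cfsg.commutingWidth ((L : Set Fi24) ∩
      (Subgroup.centralizer ((zpowers w : Subgroup Fi24) : Set Fi24) : Set Fi24)) = 0 := by
    have h3 : (L : Set Fi24) ∩ (Subgroup.centralizer ((zpowers w : Subgroup Fi24) : Set Fi24) : Set Fi24) = ∅ := by
      rw [Set.eq_empty_iff_forall_notMem]
      rintro d ⟨h4, h5⟩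
      exact width h4 (mem_centralizer_iff.1 h5 w (mem_zpowers w))
    rw [h3, Cfsg.commutingWidth]
    apply Nat.eq_zero_of_le_zero
    apply csSup_le'
    rintro n ⟨E, hE, -, -, rfl⟩
    rw [Set.subset_empty_iff.1 hE, Set.ncard_empty]
  rw [h2] at h1
  have h3 : i = 4 := by
    revert h1
    have : ∀ i : Fin 5, (0 : ℕ) = Cfsg.Agent.H842.ThreeMain.wd i → i = 4 := by decide
    exact this i
  rw [h3] at hy
  exact ⟨y, hy⟩

/-- **the cube of no element is conjugate to `X 4` or its inverse** -/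
theorem no_cube {g h : Fi24} (hc : g * h ^ 3 * g⁻¹ = X 4 ∨ g * h ^ 3 * g⁻¹ = (X 4)⁻¹) : False := by
  obtain ⟨y, hy⟩ := w_X
  have key : g * h ^ 3 * g⁻¹ = y * w * y⁻¹ ∨ g * h ^ 3 * g⁻¹ = (y * w * y⁻¹)⁻¹ := by
    rcases hc with h1 | h1 <;> rcases hy with h2 | h2
    · exact Or.inl (h1.trans h2.symm)
    · exact Or.inr (by rw [h1, h2, inv_inv])
    · exact Or.inr (by rw [h1, h2])
    · exact Or.inl (h1.trans h2.symm)
  have e : (y⁻¹ * g * h * (y⁻¹ * g)⁻¹) ^ 3 = y⁻¹ * (g * h ^ 3 * g⁻¹) * y := by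
    rw [conj_pow]; group
  rcases key with h1 | h1
  · exact not_cube (y⁻¹ * g * h * (y⁻¹ * g)⁻¹) (by rw [e, h1]; group)
  · exact not_cube (y⁻¹ * g * h * (y⁻¹ * g)⁻¹)⁻¹ (by rw [inv_pow, e, h1]; group)

/-- **`Wd 4`** -/
theorem wd_four : OreFi.Nine.Wd 4 := by
  rintro g s b hb - hs - ⟨y, hy⟩
  exfalso
  have e1 : (s : Fi24) = ((g : Fi24) ^ 3 ^ (b - 2)) ^ 3 := by
    rw [hs]
    show (g : Fi24) ^ 3 ^ (b - 1) = ((g : Fi24) ^ 3 ^ (b - 2)) ^ 3
    rw [← pow_mul, ← pow_succ]
    congr 2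
    omega
  rw [e1] at hy
  exact no_cube hy

end Cfsg.Agent.H48.WFour
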