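import Cfsg.Agent.H48.OreFi.Nine
import Cfsg.Agent.H597.OreFi.NotFive
import Cfsg.Agent.H841.SevU
import Cfsg.Agent.S0288

/-!
# `Fi24'`: the elements of order 9 and 27 over the elements of order 3 of width 6 (helper48)

* `exists_inter` : two `p`-subgroups of a group meet, up to conjugation, in a subgroup of the order given by Sylow;
* `no_seven` : commuting linear maps of `F_3 ^ 6` of order 7 and of 3-power order;
* `wd_one : Wd 1`.
-/

set_option autoImplicit false
set_option maxRecDepth 100000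

namespace Cfsg.Agent.H48.OreFi.WOne

open Subgroup

universe u

/-! ### Sylow subgroups -/

theorem exists_inter {G : Type u} [Group G] [Finite G] {p : ℕ} [hp : Fact p.Prime] {H T E : Subgroup G} (hT : T ≤ H)
    (hE : E ≤ H) {t e n m : ℕ} (cT : Nat.card T = p ^ t) (cE : Nat.card E = p ^ e) (hn : ¬ p ^ (n + 1) ∣ Nat.card H)
    (hm : n + m = t + e) :
    ∃ h ∈ H, p ^ m ≤ Nat.card (T ⊓ E.map (MulAut.conj h).toMonoidHom : Subgroup G) := by
  have pT : IsPGroup p (T.subgroupOf H) := by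
    refine IsPGroup.of_card (n := t) ?_
    rw [Nat.card_congr (subgroupOfEquivOfLe hT).toEquiv, cT]
  have pE : IsPGroup p (E.subgroupOf H) := by
    refine IsPGroup.of_card (n := e) ?_
    rw [Nat.card_congr (subgroupOfEquivOfLe hE).toEquiv, cE]
  obtain ⟨P, hP⟩ := pT.exists_le_sylow
  obtain ⟨Q, hQ⟩ := pE.exists_le_sylow
  obtain ⟨h, hh⟩ := MulAction.exists_smul_eq H Q P
  refine ⟨(h : G), h.2, ?_⟩
  let P' : Subgroup G := (P : Subgroup H).map H.subtype
  have cP' : Nat.card P' = Nat.card P :=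
    Nat.card_congr ((P : Subgroup H).equivMapOfInjective _ H.subtype_injective).symm.toEquiv
  obtain ⟨k, hk⟩ := IsPGroup.iff_card.1 P.2
  have hk' : Nat.card P = p ^ k := hk
  have hkn : k ≤ n := by
    by_contra hcon
    apply hn
    have h1 : Nat.card P ∣ Nat.card H := Subgroup.card_subgroup_dvd_card _
    rw [hk'] at h1
    exact (pow_dvd_pow p (by omega)).trans h1
  have hTP : T ≤ P' := by
    intro x hx
    exact ⟨⟨x, hT hx⟩, hP (by rw [mem_subgroupOf]; exact hx), rfl⟩
  set E' : Subgroup G := E.map (MulAut.conj (h : G)).toMonoidHom with hE'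
  have hEP : E' ≤ P' := by
    rintro _ ⟨x, hx, rfl⟩
    have h1 : (⟨x, hE hx⟩ : H) ∈ Q := hQ (by rw [mem_subgroupOf]; exact hx)
    have h2 : h * ⟨x, hE hx⟩ * h⁻¹ ∈ P := by
      rw [← hh]
      exact ⟨_, h1, rfl⟩
    exact ⟨_, h2, rfl⟩
  have cE' : Nat.card E' = p ^ e := by
    rw [hE', ← cE]
    exact Nat.card_congr (E.equivMapOfInjective _ (MulAut.conj (h : G)).injective).symm.toEquiv
  have hpp : 0 < p := hp.out.pos
  have e1 : (p ^ t) * T.relIndex P' = p ^ k := by
    have := Subgroup.relIndex_mul_relIndex ⊥ T P' bot_le hTP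
    rw [relIndex_bot_left, relIndex_bot_left, cT, cP'] at this
    rw [this]; exact hk
  have e2 : Nat.card (T ⊓ E' : Subgroup G) * T.relIndex E' = p ^ e := by
    have := Subgroup.relIndex_mul_relIndex ⊥ (T ⊓ E') E' bot_le inf_le_right
    rwa [relIndex_bot_left, relIndex_bot_left, cE', inf_relIndex_right] at this
  have hne : T.relIndex P' ≠ 0 := by
    intro h0
    rw [h0, mul_zero] at e1
    exact absurd e1.symm (by positivity)
  have e3 : T.relIndex E' ≤ T.relIndex P' := relIndex_le_of_le_right hEP hne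
  have e4 : p ^ e * p ^ t ≤ Nat.card (T ⊓ E' : Subgroup G) * p ^ k := by
    calc p ^ e * p ^ t = Nat.card (T ⊓ E' : Subgroup G) * T.relIndex E' * p ^ t := by rw [e2]
      _ ≤ Nat.card (T ⊓ E' : Subgroup G) * T.relIndex P' * p ^ t := by gcongr
      _ = Nat.card (T ⊓ E' : Subgroup G) * p ^ k := by rw [← e1]; ring
  have e5 : p ^ m * p ^ n ≤ Nat.card (T ⊓ E' : Subgroup G) * p ^ n := by
    calc p ^ m * p ^ n = p ^ e * p ^ t := by rw [← pow_add, ← pow_add]; congr 1; omega
      _ ≤ Nat.card (T ⊓ E' : Subgroup G) * p ^ k := e4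
      _ ≤ Nat.card (T ⊓ E' : Subgroup G) * p ^ n := by
          gcongr
  exact Nat.le_of_mul_le_mul_right e5 (by positivity)

/-! ### Linear maps of order 7 -/

theorem fix_modEq {α : Type u} [Finite α] (f : α → α) {p n : ℕ} [Fact p.Prime] (hf : f^[p ^ n] = id) :
    Nat.card α ≡ Nat.card {x // f x = x} [MOD p] := by
  classical
  have := Fintype.ofFinite α
  have h := Equiv.Perm.card_fixedPoints_modEq (f := (f : Function.End α)) (p := p) (n := n) hf
  rw [Nat.card_eq_fintype_card, Nat.card_eq_fintype_card]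
  have e : Fintype.card (Function.fixedPoints f) = Fintype.card {x // f x = x} := Fintype.card_congr (Equiv.refl _)
  rw [← e]
  exact h

section

variable {W : Type u} [AddCommGroup W] [Module (ZMod 3) W] [Finite W]

/-- the fixed vectors -/
def fx (k : W →ₗ[ZMod 3] W) : AddSubgroup W where
  carrier := {x | k x = x}
  zero_mem' := map_zero k
  add_mem' {a b} ha hb := by
    show k (a + b) = a + b
    rw [map_add, show k a = a from ha, show k b = b from hb]
  neg_mem' {a} ha := by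
    show k (-a) = -a
    rw [map_neg, show k a = a from ha]

omit [Finite W] in
theorem mem_fx {k : W →ₗ[ZMod 3] W} {x : W} : x ∈ fx k ↔ k x = x := Iff.rfl

theorem card_fx (hW : Nat.card W = 3 ^ 6) {k : W →ₗ[ZMod 3] W} (hk : k ≠ LinearMap.id)
    (h7 : Nat.card (fx k) ≡ 1 [MOD 7]) : Nat.card (fx k) = 1 := by
  have h1 : Nat.card (fx k) ∣ 3 ^ 6 := hW ▸ AddSubgroup.card_addSubgroup_dvd_card (fx k)
  obtain ⟨d, hd, he⟩ := (Nat.dvd_prime_pow Nat.prime_three).1 h1
  have h6 : d ≠ 6 := by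
    rintro rfl
    apply hk
    have h2 : fx k = ⊤ := AddSubgroup.eq_top_of_card_eq _ (by rw [he, hW])
    ext x
    have h3 : x ∈ fx k := by rw [h2]; trivial
    exact h3
  rw [he] at h7 ⊢
  unfold Nat.ModEq at h7
  interval_cases d
  all_goals first
    | rfl
    | (exfalso; revert h7; norm_num; done)
    | exact absurd rfl h6

theorem no_seven (hW : Nat.card W = 3 ^ 6) {k m : W →ₗ[ZMod 3] W} (hk7 : (⇑k)^[7 ^ 1] = id) (hk : k ≠ LinearMap.id)
    {b : ℕ} (hm3 : (⇑m)^[3 ^ b] = id) (hm : m ≠ LinearMap.id) (hc : ∀ u, k (m u) = m (k u)) : False := by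
  have : Fact (Nat.Prime 7) := ⟨by norm_num⟩
  have : Fact (Nat.Prime 3) := ⟨by norm_num⟩
  have h1 : Nat.card (fx k) = 1 := by
    apply card_fx hW hk
    have h := fix_modEq (⇑k) hk7
    rw [hW] at h
    exact (h.symm.trans (by decide))
  have h0 : ∀ x, k x = x → x = 0 := by
    intro x hx
    have hs : Subsingleton (fx k) := (Nat.card_eq_one_iff_unique.1 h1).1
    exact congrArg Subtype.val (Subsingleton.elim (⟨x, hx⟩ : fx k) 0)
  -- the restriction to the fixed vectors of `m`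
  have hr : ∀ x : fx m, k (x : W) ∈ fx m := by
    intro x
    rw [mem_fx, ← hc, mem_fx.1 x.2]
  let f : fx m → fx m := fun x => ⟨k (x : W), hr x⟩
  have hf : ∀ (n : ℕ) (x : fx m), ((f^[n] x : fx m) : W) = (⇑k)^[n] (x : W) := by
    intro n
    induction n with
    | zero => intro x; rfl
    | succ n ih => intro x; rw [Function.iterate_succ_apply, Function.iterate_succ_apply, ih]
  have hf7 : f^[7 ^ 1] = id := by
    funext x
    apply Subtype.ext
    rw [hf, hk7]
    rfl
  have h2 : Nat.card (fx m) = 1 := by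
    apply card_fx hW hm
    refine (fix_modEq f hf7).trans ?_
    have h3 : Nat.card {x : fx m // f x = x} = 1 := by
      rw [Nat.card_eq_one_iff_unique]
      refine ⟨⟨fun x y => ?_⟩, ⟨⟨0, ?_⟩⟩⟩
      · have hx : ((x : fx m) : W) = 0 := h0 _ (congrArg Subtype.val x.2)
        have hy : ((y : fx m) : W) = 0 := h0 _ (congrArg Subtype.val y.2)
        exact Subtype.ext (Subtype.ext (hx.trans hy.symm))
      · exact Subtype.ext (map_zero k)
    rw [h3]
  have h4 := fix_modEq (⇑m) hm3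
  have h5 : Nat.card {x // m x = x} = 1 := h2
  rw [h5, hW] at h4
  exact absurd h4 (by decide)

end

/-! ### The group `N(⟨x2⟩)` -/

open Cfsg Cfsg.Agent.Fischer.Fi24Final
open Cfsg.Agent.H841.Sev (NY A N O6 I6 Ps Ps_eq_one a6 a6l a6_one a6_mul a6_ext mem_NY NY_le_N A_le_NY card_A A_comm A_cube
  mem_A_of_comm mem_N_iff x2_vec vec_eq_one vec_mem tv_mem_N2 mem_N2 tv3 tv5 quot_iso_NY normal_A_NY x2_cube)
open Cfsg.Agent.LThreeFi24.SNine (x2)
open Cfsg.Agent.R08.FiTwentyFour (L mem_commutator_iff sgn_L mul_mem_commutator)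
open Cfsg.Spor (Fi24)

local notation "gn" => Cfsg.Agent.Fischer.Fi24Class.gen

theorem finite24 : Finite Fi24 := Cfsg.Agent.R08.FiTwentyFour.finite_Fi24

theorem card_O6 : Nat.card O6 = 26127360 := by
  have h := Cfsg.Agent.S0288.result (F := ZMod 3) (q := 3) (ZMod.card 3) 3 (by norm_num) 0 1 (by decide)
  have e : Nat.card (Cfsg.isometryGroup (ZMod 3) (Cfsg.quadFormMinus (3 - 1) (ZMod 3) 0 1)) = 26127360 := by
    rw [h]
    norm_num [Finset.prod_range_succ, Finset.prod_Icc_succ_top]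
  exact e

theorem card_NY : Nat.card NY = 3 ^ 7 * 26127360 := by
  have hfin := finite24
  have := normal_A_NY
  obtain ⟨e⟩ := quot_iso_NY normal_A_NY
  rw [Subgroup.card_eq_card_quotient_mul_card_subgroup (A.subgroupOf NY), Nat.card_congr e.toEquiv, card_O6,
    Nat.card_congr (subgroupOfEquivOfLe A_le_NY).toEquiv, card_A, mul_comm]

theorem x2_ne : x2 ≠ 1 := by
  rw [x2_vec]
  intro h
  have := vec_eq_one h
  exact absurd this (by decide)

/-- the two transpositions -/
theorem cl : Commute (gn .l) x2 := by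
  have h := (mem_N2.1 (tv_mem_N2 (j := 3) (by decide))).2
  rw [tv3] at h
  exact h

theorem ca : Commute (gn .a) x2 := by
  have h := (mem_N2.1 (tv_mem_N2 (j := 5) (by decide))).2
  rw [tv5] at h
  exact h

/-- `C(x2) ∩ Fi24'` -/
def C' : Subgroup Fi24 := centralizer {x2} ⊓ commutator Fi24

theorem C'_le : C' ≤ NY := fun _ hg => mem_NY.2 (Or.inl (mul_inv_eq_iff_eq_mul.2 (mem_centralizer_singleton_iff.1 hg.1)))

theorem card_C' : Nat.card C' = 2 ^ 8 * 3 ^ 13 * 5 * 7 := by
  have hfin := finite24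
  have hle : Subgroup.centralizer ({x2} : Set Fi24) ≤ NY := fun g hg =>
    mem_NY.2 (Or.inl (mul_inv_eq_iff_eq_mul.2 (mem_centralizer_singleton_iff.1 hg)))
  have hmem : ∀ g : NY, g ∈ (Subgroup.centralizer ({x2} : Set Fi24)).subgroupOf NY ↔ (g : Fi24) * x2 * (g : Fi24)⁻¹ = x2 := by
    intro g
    rw [mem_subgroupOf, mem_centralizer_singleton_iff, mul_inv_eq_iff_eq_mul]
  have hidx : ((Subgroup.centralizer ({x2} : Set Fi24)).subgroupOf NY).index = 2 := by
    obtain ⟨j, -, hjj, hj⟩ := Cfsg.Agent.H49.Four.ThreeInv.three_inv24 x2_cube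
    have hji : j⁻¹ = j := inv_eq_of_mul_eq_one_left hjj
    have hn2 : j * x2 * j⁻¹ = x2⁻¹ := by rw [hji, hj]
    have hx : x2⁻¹ ≠ x2 := by
      intro h
      have h1 : x2 * x2 = 1 := by
        nth_rewrite 1 [← h]
        exact inv_mul_cancel x2
      have h5 := x2_cube
      rw [pow_succ, pow_two, h1, one_mul] at h5
      exact x2_ne h5
    rw [Subgroup.index_eq_two_iff]
    refine ⟨⟨j, mem_NY.2 (Or.inr hn2)⟩, fun b => ?_⟩
    rw [hmem, hmem]
    have e1 : ((b * ⟨j, mem_NY.2 (Or.inr hn2)⟩ : NY) : Fi24) * x2 * ((b * ⟨j, mem_NY.2 (Or.inr hn2)⟩ : NY) : Fi24)⁻¹ =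
        (b : Fi24) * x2⁻¹ * (b : Fi24)⁻¹ := by
      calc ((b * ⟨j, mem_NY.2 (Or.inr hn2)⟩ : NY) : Fi24) * x2 * ((b * ⟨j, mem_NY.2 (Or.inr hn2)⟩ : NY) : Fi24)⁻¹
          = ((b : Fi24) * j) * x2 * ((b : Fi24) * j)⁻¹ := rfl
        _ = (b : Fi24) * (j * x2 * j⁻¹) * (b : Fi24)⁻¹ := by group
        _ = _ := by rw [hn2]
    rw [e1]
    have e2 : (b : Fi24) * x2⁻¹ * (b : Fi24)⁻¹ = ((b : Fi24) * x2 * (b : Fi24)⁻¹)⁻¹ := by group
    rw [e2]
    rcases mem_NY.1 b.2 with h | h
    · rw [h]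
      exact Or.inr ⟨rfl, hx⟩
    · rw [h, inv_inv]
      exact Or.inl ⟨rfl, hx⟩
  have h1 := Subgroup.card_mul_index ((Subgroup.centralizer ({x2} : Set Fi24)).subgroupOf NY)
  rw [hidx, card_NY, Nat.card_congr (subgroupOfEquivOfLe hle).toEquiv] at h1
  have hle2 : C' ≤ Subgroup.centralizer ({x2} : Set Fi24) := inf_le_left
  have hidx2 : (C'.subgroupOf (Subgroup.centralizer ({x2} : Set Fi24))).index = 2 := by
    have hm : ∀ g : Subgroup.centralizer ({x2} : Set Fi24), g ∈ C'.subgroupOf (Subgroup.centralizer ({x2} : Set Fi24)) ↔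
        sgn (g : Fi24) = 1 := by
      intro g
      rw [mem_subgroupOf, ← mem_commutator_iff]
      exact ⟨fun h => h.2, fun h => ⟨g.2, h⟩⟩
    rw [Subgroup.index_eq_two_iff]
    refine ⟨⟨gn .l, mem_centralizer_singleton_iff.2 cl.eq⟩, fun b => ?_⟩
    rw [hm, hm]
    have e1 : sgn ((b * ⟨gn .l, mem_centralizer_singleton_iff.2 cl.eq⟩ : Subgroup.centralizer ({x2} : Set Fi24)) : Fi24) =
        -sgn (b : Fi24) := by
      show sgn ((b : Fi24) * gn .l) = _
      rw [map_mul, sgn_L (Cfsg.Agent.R08.FiTwentyFour.gen_mem_L .l), mul_neg, mul_one]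
    rw [e1]
    rcases Int.units_eq_one_or (sgn (b : Fi24)) with h | h
    · rw [h]
      exact Or.inr ⟨rfl, by decide⟩
    · rw [h]
      exact Or.inl ⟨rfl, by decide⟩
  have h2 := Subgroup.card_mul_index (C'.subgroupOf (Subgroup.centralizer ({x2} : Set Fi24)))
  rw [hidx2, Nat.card_congr (subgroupOfEquivOfLe hle2).toEquiv] at h2
  omega

/-! ### The bound -/

theorem pow_iter (m : O6) (n : ℕ) : (⇑(a6l m))^[n] = ⇑(a6l (m ^ n)) := by
  induction n with
  | zero =>
    funext u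
    show u = a6 (m ^ 0) u
    rw [pow_zero, a6_one]
  | succ n ih =>
    funext u
    rw [Function.iterate_succ_apply, ih, pow_succ]
    exact (a6_mul _ _ _).symm

theorem a6l_id {m : O6} (h : a6l m = LinearMap.id) : m = 1 := by
  apply a6_ext
  intro v
  rw [a6_one]
  exact LinearMap.congr_fun h v

theorem card_W : Nat.card (I6 → ZMod 3) = 3 ^ 6 := by
  rw [Nat.card_eq_fintype_card, Fintype.card_fun, ZMod.card]
  rfl

theorem bound_x2 {g : Spor.Fi24'} {b : ℕ} (hb : 2 ≤ b) (hg : orderOf g = 3 ^ b) (hp : (g : Fi24) ^ 3 ^ (b - 1) = x2)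
    (hD : ∀ d ∈ L, ¬ Commute (g : Fi24) d) : Nat.card (centralizer ({g} : Set Spor.Fi24')) ≤ 68024448 := by
  have hfin := finite24
  have f2 : Fact (Nat.Prime 2) := ⟨Nat.prime_two⟩
  have f3 : Fact (Nat.Prime 3) := ⟨Nat.prime_three⟩
  have f7 : Fact (Nat.Prime 7) := ⟨by norm_num⟩
  let K : Subgroup Fi24 := centralizer ({(g : Fi24)} : Set Fi24) ⊓ commutator Fi24
  have cK : Nat.card (centralizer ({g} : Set Spor.Fi24')) = Nat.card K := by
    have e1 : K = (centralizer ({g} : Set Spor.Fi24')).map (commutator Fi24).subtype := by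
      ext x
      constructor
      · rintro ⟨h1, h2⟩
        refine ⟨⟨x, h2⟩, ?_, rfl⟩
        have h3 : x * (g : Fi24) = g * x := mem_centralizer_singleton_iff.1 h1
        exact mem_centralizer_singleton_iff.2 (Subtype.ext h3)
      · rintro ⟨x, hx, rfl⟩
        refine ⟨?_, x.2⟩
        have hx' : x * g = g * x := mem_centralizer_singleton_iff.1 hx
        exact mem_centralizer_singleton_iff.2 (congrArg Subtype.val hx')
    rw [e1]
    exact Nat.card_congr ((centralizer ({g} : Set Spor.Fi24')).equivMapOfInjective _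
      (Subgroup.subtype_injective _)).toEquiv
  have hKg : ∀ x ∈ K, Commute x (g : Fi24) := fun x hx => mem_centralizer_singleton_iff.1 hx.1
  have hKC : K ≤ C' := by
    intro x hx
    refine ⟨mem_centralizer_singleton_iff.2 ?_, hx.2⟩
    rw [← hp]
    exact ((hKg x hx).pow_right _).eq
  have hgC : (g : Fi24) ∈ C' := hKC ⟨mem_centralizer_singleton_iff.2 rfl, g.2⟩
  have hgY : (g : Fi24) ∈ NY := C'_le hgC
  have ho : orderOf (g : Fi24) = 3 ^ b := by rw [Subgroup.orderOf_coe, hg]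
  have hodd : Odd (orderOf (g : Fi24)) := by rw [ho]; exact Odd.pow (by decide)
  have hgA : (g : Fi24) ∉ A := by
    intro h
    have h1 := A_cube h
    have h2 : orderOf (g : Fi24) ∣ 3 := orderOf_dvd_of_pow_eq_one h1
    rw [ho] at h2
    have h3 := Nat.le_of_dvd (by norm_num) h2
    have h4 : 3 ^ 2 ≤ 3 ^ b := Nat.pow_le_pow_right (by norm_num) hb
    omega
  -- the primes
  have n5 : ¬ 5 ∣ Nat.card K := by
    rw [← cK]
    apply Cfsg.Agent.H597.OreFi.NotFive.not_five _ hD
    rw [hg]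
    intro h
    exact absurd ((Nat.prime_dvd_prime_iff_eq (by norm_num) (by norm_num)).1 ((by norm_num : Nat.Prime 5).dvd_of_dvd_pow h))
      (by norm_num)
  have n7 : ¬ 7 ∣ Nat.card K := by
    intro h
    obtain ⟨x, hx⟩ := exists_prime_orderOf_dvd_card' 7 h
    have hxY : (x : Fi24) ∈ NY := C'_le (hKC x.2)
    have hx7 : (x : Fi24) ^ 7 = 1 := by
      have : x ^ 7 = 1 := by rw [← hx]; exact pow_orderOf_eq_one x
      exact congrArg Subtype.val this
    have hx1 : (x : Fi24) ≠ 1 := by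
      intro h
      have : x = 1 := Subtype.ext h
      rw [this, orderOf_one] at hx
      omega
    have hxA : (x : Fi24) ∉ A := by
      intro h
      have h1 := A_cube h
      apply hx1
      calc (x : Fi24) = (x : Fi24) ^ 7 * ((x : Fi24) ^ 3)⁻¹ * ((x : Fi24) ^ 3)⁻¹ := by group
        _ = 1 := by rw [hx7, h1]; simp
    let k : O6 := Ps ⟨x, hxY⟩
    let m : O6 := Ps ⟨g, hgY⟩
    refine no_seven card_W (k := a6l k) (m := a6l m) (b := b) ?_ ?_ ?_ ?_ ?_
    · rw [pow_iter]
      have : k ^ 7 ^ 1 = 1 := by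
        rw [pow_one, ← map_pow]
        have e : (⟨x, hxY⟩ : NY) ^ 7 = 1 := Subtype.ext hx7
        rw [e, map_one]
      rw [this]
      funext u
      exact a6_one u
    · intro h
      exact hxA (Ps_eq_one.1 (a6l_id h))
    · rw [pow_iter]
      have : m ^ 3 ^ b = 1 := by
        rw [← map_pow]
        have e : (⟨g, hgY⟩ : NY) ^ 3 ^ b = 1 := Subtype.ext (by
          show (g : Fi24) ^ 3 ^ b = 1
          rw [← ho]; exact pow_orderOf_eq_one _)
        rw [e, map_one]
      rw [this]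
      funext u
      exact a6_one u
    · intro h
      exact hgA (Ps_eq_one.1 (a6l_id h))
    · intro u
      have e : k * m = m * k := by
        rw [← map_mul, ← map_mul]
        congr 1
        exact Subtype.ext (hKg x x.2).eq
      show a6 k (a6 m u) = a6 m (a6 k u)
      rw [← a6_mul, ← a6_mul, e]
  have n2 : ¬ 2 ^ 8 ∣ Nat.card K := by
    intro h
    obtain ⟨T₀, hT₀⟩ := Sylow.exists_subgroup_card_pow_prime 2 h
    let T : Subgroup Fi24 := T₀.map K.subtype
    have cT : Nat.card T = 2 ^ 8 := by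
      rw [← hT₀]
      exact Nat.card_congr (T₀.equivMapOfInjective _ K.subtype_injective).symm.toEquiv
    have hTK : T ≤ K := by rintro _ ⟨x, -, rfl⟩; exact x.2
    have lL := Cfsg.Agent.R08.FiTwentyFour.gen_mem_L .l
    have aL := Cfsg.Agent.R08.FiTwentyFour.gen_mem_L .a
    have hla : Commute (gn .l) (gn .a) := (Cfsg.Agent.Fischer.Fi24Class.comm_l .a (by decide)).symm
    have hne : gn .l ≠ gn .a := (Cfsg.Agent.Fischer.Fi24Class.a_ne_l Cfsg.Agent.R08.FiTwentyFour.facts.card_ne).symm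
    have hla2 : (gn .l * gn .a) ^ 2 = (1 : Fi24) := by
      rw [pow_two, show gn .l * gn .a * (gn .l * gn .a) = gn .l * (gn .a * gn .l) * gn .a by group, hla.symm.eq,
        show gn .l * (gn .l * gn .a) * gn .a = (gn .l * gn .l) * (gn .a * gn .a) by group,
        Cfsg.Agent.R08.FiTwentyFour.sq lL, Cfsg.Agent.R08.FiTwentyFour.sq aL, one_mul]
    have hla1 : gn .l * gn .a ≠ (1 : Fi24) := by
      intro h
      apply hne
      exact mul_right_cancel (h.trans (Cfsg.Agent.R08.FiTwentyFour.sq aL).symm)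
    let E : Subgroup Fi24 := zpowers (gn .l * gn .a)
    have cE : Nat.card E = 2 ^ 1 := by rw [Nat.card_zpowers, orderOf_eq_prime hla2 hla1, pow_one]
    have hE : E ≤ C' := by
      rw [zpowers_le]
      exact ⟨mem_centralizer_singleton_iff.2 (cl.mul_left ca).eq, mul_mem_commutator lL aL⟩
    have hn : ¬ 2 ^ (8 + 1) ∣ Nat.card C' := by rw [card_C']; norm_num
    obtain ⟨y, -, hy⟩ := exists_inter (hTK.trans hKC) hE cT cE hn (m := 1) (by norm_num)
    have hnt : Nontrivial (T ⊓ E.map (MulAut.conj y).toMonoidHom : Subgroup Fi24) := by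
      rw [← Finite.one_lt_card_iff_nontrivial]
      omega
    obtain ⟨w, hw⟩ := exists_ne (1 : (T ⊓ E.map (MulAut.conj y).toMonoidHom : Subgroup Fi24))
    obtain ⟨hwT, v, hv, hvw⟩ := w.2
    have hv2 : v = 1 ∨ v = gn .l * gn .a := by
      obtain ⟨n, rfl⟩ := mem_zpowers_iff.1 hv
      rcases Int.even_or_odd' n with ⟨c, rfl | rfl⟩
      · left
        rw [zpow_mul, show (gn .l * gn .a : Fi24) ^ (2 : ℤ) = (gn .l * gn .a) ^ 2 from rfl, hla2, one_zpow]
      · right
        rw [zpow_add, zpow_mul, show (gn .l * gn .a : Fi24) ^ (2 : ℤ) = (gn .l * gn .a) ^ 2 from rfl, hla2, one_zpow,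
          one_mul, zpow_one]
    rcases hv2 with rfl | rfl
    · apply hw
      apply Subtype.ext
      rw [← hvw]
      exact map_one _
    · have h1 : (w : Fi24) = (y * gn .l * y⁻¹) * (y * gn .a * y⁻¹) := by
        rw [← hvw]
        show y * (gn .l * gn .a) * y⁻¹ = _
        group
      have h2 : Commute (g : Fi24) ((y * gn .l * y⁻¹) * (y * gn .a * y⁻¹)) := by
        rw [← h1]; exact (hKg _ (hTK hwT)).symm
      refine hD _ (Cfsg.Agent.R08.FiTwentyFour.conj lL y) (NineA.comm_all Cfsg.Agent.R08.TetFi24A.tr hodd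
        (Cfsg.Agent.R08.FiTwentyFour.conj lL y) (Cfsg.Agent.R08.FiTwentyFour.conj aL y) ?_ ?_ h2)
      · intro h
        exact hne (mul_left_cancel (mul_right_cancel h))
      · show y * gn .l * y⁻¹ * (y * gn .a * y⁻¹) = y * gn .a * y⁻¹ * (y * gn .l * y⁻¹)
        calc y * gn .l * y⁻¹ * (y * gn .a * y⁻¹) = y * (gn .l * gn .a) * y⁻¹ := by group
          _ = y * (gn .a * gn .l) * y⁻¹ := by rw [hla.eq]
          _ = _ := by group
  have n3 : ¬ 3 ^ 13 ∣ Nat.card K := by
    intro h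
    obtain ⟨T₀, hT₀⟩ := Sylow.exists_subgroup_card_pow_prime 3 h
    let T : Subgroup Fi24 := T₀.map K.subtype
    have cT : Nat.card T = 3 ^ 13 := by
      rw [← hT₀]
      exact Nat.card_congr (T₀.equivMapOfInjective _ K.subtype_injective).symm.toEquiv
    have hTK : T ≤ K := by rintro _ ⟨x, -, rfl⟩; exact x.2
    have hAC : A ≤ C' := by
      intro a ha
      refine ⟨mem_centralizer_singleton_iff.2 ?_, mem_commutator_iff.2 ?_⟩
      · rw [x2_vec]; exact (A_comm ha (vec_mem _)).eq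
      · have h1 : sgn a ^ 3 = 1 := by rw [← map_pow, A_cube ha, map_one]
        rcases Int.units_eq_one_or (sgn a) with h | h
        · exact h
        · rw [h] at h1
          exact absurd h1 (by decide)
    have hn : ¬ 3 ^ (13 + 1) ∣ Nat.card C' := by rw [card_C']; norm_num
    obtain ⟨y, hyC, hy⟩ := exists_inter (hTK.trans hKC) hAC cT card_A hn (m := 7) (by norm_num)
    have hAy : A.map (MulAut.conj y).toMonoidHom ≤ A := by
      rintro _ ⟨a, ha, rfl⟩
      exact mem_N_iff.1 (NY_le_N (C'_le hyC)) a ha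
    have h1 : (T ⊓ A.map (MulAut.conj y).toMonoidHom : Subgroup Fi24) ≤ A := inf_le_right.trans hAy
    have h2 : (T ⊓ A.map (MulAut.conj y).toMonoidHom : Subgroup Fi24) = A := by
      apply Subgroup.eq_of_le_of_card_ge h1
      rw [card_A]
      exact hy
    have h3 : A ≤ T := by rw [← h2]; exact inf_le_left
    exact hgA (mem_A_of_comm fun a ha => (hKg a (hTK (h3 ha))).symm)
  have hdvd : Nat.card K ∣ 2 ^ 8 * 3 ^ 13 * 5 * 7 := by
    rw [← card_C']
    exact Subgroup.card_dvd_of_le hKC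
  rw [cK]
  have d1 : Nat.card K ∣ 2 ^ 8 * 3 ^ 13 * 5 :=
    (Nat.Coprime.dvd_of_dvd_mul_right ((Nat.Prime.coprime_iff_not_dvd (by norm_num)).2 n7).symm hdvd)
  have d2 : Nat.card K ∣ 2 ^ 8 * 3 ^ 13 :=
    (Nat.Coprime.dvd_of_dvd_mul_right ((Nat.Prime.coprime_iff_not_dvd (by norm_num)).2 n5).symm d1)
  obtain ⟨x, y, hx, hy, hxy⟩ := (Nat.dvd_mul).1 d2
  obtain ⟨i, hi, rfl⟩ := (Nat.dvd_prime_pow Nat.prime_two).1 hx
  obtain ⟨j, hj, rfl⟩ := (Nat.dvd_prime_pow Nat.prime_three).1 hy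
  have hi8 : i ≤ 7 := by
    by_contra hcon
    have : i = 8 := by omega
    subst this
    exact n2 (by rw [← hxy]; exact dvd_mul_right _ _)
  have hj13 : j ≤ 12 := by
    by_contra hcon
    have : j = 13 := by omega
    subst this
    exact n3 (by rw [← hxy]; exact dvd_mul_left _ _)
  calc Nat.card K = 2 ^ i * 3 ^ j := hxy.symm
    _ ≤ 2 ^ 7 * 3 ^ 12 := Nat.mul_le_mul (Nat.pow_le_pow_right (by norm_num) hi8) (Nat.pow_le_pow_right (by norm_num) hj13)
    _ = 68024448 := by norm_num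

/-- **width six** -/
theorem wd_one : Nine.Wd 1 := by
  apply Nine.Wd.of_X
  intro g b hb hg hp hD
  obtain ⟨r, hr⟩ : ∃ r : Fi24, r = Cfsg.Agent.Fischer.Fi24Rep.word Cfsg.Agent.H841.Sev.ur := ⟨_, rfl⟩
  have hx : r * (g : Fi24) ^ 3 ^ (b - 1) * r⁻¹ = x2 := by
    rw [hp, hr]
    exact Cfsg.Agent.H841.Sev.x2_conj
  rw [← Nine.card_cent_equiv (Nine.cj r) g]
  refine (bound_x2 hb (by rw [MulEquiv.orderOf_eq, hg]) ?_ ?_).trans (by norm_num)
  · rw [Nine.coe_cj, conj_pow]
    exact hx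
  · intro d hd hc
    rw [Nine.coe_cj] at hc
    apply hD (r⁻¹ * d * r)
    · have := Cfsg.Agent.R08.FiTwentyFour.conj hd r⁻¹
      rwa [inv_inv] at this
    · show (g : Fi24) * (r⁻¹ * d * r) = r⁻¹ * d * r * (g : Fi24)
      calc (g : Fi24) * (r⁻¹ * d * r) = r⁻¹ * ((r * (g : Fi24) * r⁻¹) * d) * r := by group
        _ = r⁻¹ * (d * (r * (g : Fi24) * r⁻¹)) * r := by rw [hc.eq]
        _ = r⁻¹ * d * r * (g : Fi24) := by group

end Cfsg.Agent.H48.OreFi.WOne
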