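import Cfsg.Agent.H841.TwG
import Cfsg.Agent.R08.TetFi24A

/-!
# `Fi24`: the 2-part of the centralizer of an element of odd order over `x3` (helper48, for helper597)

* `exists_inter` : two 2-subgroups of a group meet, up to conjugation, in a subgroup of the order given by Sylow;
* `two_part` : `g` of odd order commuting with `x3` and with no transposition: `2 ^ 8` does not divide the order of
  `C(g) ∩ C(x3) ∩ Fi24'`.
-/

set_option autoImplicit false
set_option maxRecDepth 100000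

namespace Cfsg.Agent.H48.OreFi.TwoPart

open Subgroup
open Cfsg.Agent.R08.TetBasic (Tr pair_unique)

universe u

theorem exists_inter {G : Type u} [Group G] [Finite G] {H T E : Subgroup G} (hT : T ≤ H) (hE : E ≤ H)
    {t e n m : ℕ} (cT : Nat.card T = 2 ^ t) (cE : Nat.card E = 2 ^ e) (hn : ¬ 2 ^ (n + 1) ∣ Nat.card H)
    (hm : n + m = t + e) :
    ∃ h : G, 2 ^ m ≤ Nat.card (T ⊓ E.map (MulAut.conj h).toMonoidHom : Subgroup G) := by
  have pT : IsPGroup 2 (T.subgroupOf H) := by
    refine IsPGroup.of_card (n := t) ?_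
    rw [Nat.card_congr (subgroupOfEquivOfLe hT).toEquiv, cT]
  have pE : IsPGroup 2 (E.subgroupOf H) := by
    refine IsPGroup.of_card (n := e) ?_
    rw [Nat.card_congr (subgroupOfEquivOfLe hE).toEquiv, cE]
  obtain ⟨P, hP⟩ := pT.exists_le_sylow
  obtain ⟨Q, hQ⟩ := pE.exists_le_sylow
  obtain ⟨h, hh⟩ := MulAction.exists_smul_eq H Q P
  refine ⟨(h : G), ?_⟩
  let P' : Subgroup G := (P : Subgroup H).map H.subtype
  have cP' : Nat.card P' = Nat.card P :=
    Nat.card_congr ((P : Subgroup H).equivMapOfInjective _ H.subtype_injective).symm.toEquiv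
  obtain ⟨k, hk⟩ := IsPGroup.iff_card.1 P.2
  have hkn : k ≤ n := by
    by_contra hcon
    apply hn
    have h1 : Nat.card P ∣ Nat.card H := Subgroup.card_subgroup_dvd_card _
    have h2 : Nat.card P = 2 ^ k := hk
    rw [h2] at h1
    exact (pow_dvd_pow 2 (by omega)).trans h1
  have hTP : T ≤ P' := by
    intro x hx
    exact ⟨⟨x, hT hx⟩, hP (by rw [mem_subgroupOf]; exact hx), rfl⟩
  set E' : Subgroup G := E.map (MulAut.conj (h : G)).toMonoidHom with hE'
  have hEP : E' ≤ P' := by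
    rintro _ ⟨x, hx, rfl⟩
    have h1 : (⟨x, hE hx⟩ : H) ∈ Q := hQ (by rw [mem_subgroupOf]; exact hx)
    have h2 : h * ⟨x, hE hx⟩ * h⁻¹ ∈ P := by
      rw [← hh]
      exact ⟨_, h1, rfl⟩
    exact ⟨_, h2, rfl⟩
  have cE' : Nat.card E' = 2 ^ e := by
    rw [hE', ← cE]
    exact Nat.card_congr (E.equivMapOfInjective _ (MulAut.conj (h : G)).injective).symm.toEquiv
  have e1 : (2 ^ t) * T.relIndex P' = 2 ^ k := by
    have := Subgroup.relIndex_mul_relIndex ⊥ T P' bot_le hTP
    rw [relIndex_bot_left, relIndex_bot_left, cT, cP'] at this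
    rw [this]; exact hk
  have e2 : Nat.card (T ⊓ E' : Subgroup G) * T.relIndex E' = 2 ^ e := by
    have := Subgroup.relIndex_mul_relIndex ⊥ (T ⊓ E') E' bot_le inf_le_right
    rwa [relIndex_bot_left, relIndex_bot_left, cE', inf_relIndex_right] at this
  have hne : T.relIndex P' ≠ 0 := by
    intro h0
    rw [h0, mul_zero] at e1
    exact absurd e1.symm (by positivity)
  have e3 : T.relIndex E' ≤ T.relIndex P' := relIndex_le_of_le_right hEP hne
  have e4 : 2 ^ e * 2 ^ t ≤ Nat.card (T ⊓ E' : Subgroup G) * 2 ^ k := by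
    calc 2 ^ e * 2 ^ t = Nat.card (T ⊓ E' : Subgroup G) * T.relIndex E' * 2 ^ t := by rw [e2]
      _ ≤ Nat.card (T ⊓ E' : Subgroup G) * T.relIndex P' * 2 ^ t := by gcongr
      _ = Nat.card (T ⊓ E' : Subgroup G) * 2 ^ k := by rw [← e1]; ring
  have e5 : 2 ^ m * 2 ^ n ≤ Nat.card (T ⊓ E' : Subgroup G) * 2 ^ n := by
    calc 2 ^ m * 2 ^ n = 2 ^ e * 2 ^ t := by rw [← pow_add, ← pow_add]; congr 1; omega
      _ ≤ Nat.card (T ⊓ E' : Subgroup G) * 2 ^ k := e4
      _ ≤ Nat.card (T ⊓ E' : Subgroup G) * 2 ^ n := by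
          gcongr
          norm_num
  exact Nat.le_of_mul_le_mul_right e5 (by positivity)

/-! ### The combinatorics of the even part of `2 ^ 5` -/

abbrev C2 := Multiplicative (ZMod 2)

abbrev V5 := Fin 5 → C2

def gg : C2 := Multiplicative.ofAdd 1

def ev (v : V5) : C2 := v 0 * v 1 * v 2 * v 3 * v 4

/-- the weight two vectors -/
def w2 (v : V5) : Bool := (List.finRange 5).any fun i => (List.finRange 5).any fun j =>
  decide (i < j) && decide (v = Pi.mulSingle i gg * Pi.mulSingle j gg)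

/-- the weight four vectors -/
def w4 (v : V5) : Bool := (List.finRange 5).any fun i => (List.finRange 5).any fun j =>
  (List.finRange 5).any fun k => (List.finRange 5).any fun l =>
  decide (i < j) && decide (j < k) && decide (k < l) &&
    decide (v = Pi.mulSingle i gg * Pi.mulSingle j gg * (Pi.mulSingle k gg * Pi.mulSingle l gg))

def mkV (a b c d e : C2) : V5 := ![a, b, c, d, e]

theorem eq_mkV (v : V5) : v = mkV (v 0) (v 1) (v 2) (v 3) (v 4) := by
  funext i
  fin_cases i <;> rfl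

theorem w24' : ∀ a b c d e : C2, ev (mkV a b c d e) = 1 → mkV a b c d e ≠ 1 →
    w2 (mkV a b c d e) = true ∨ w4 (mkV a b c d e) = true := by
  decide +kernel

theorem w24 (v : V5) (h : ev v = 1) (h1 : v ≠ 1) : w2 v = true ∨ w4 v = true := by
  have := w24' (v 0) (v 1) (v 2) (v 3) (v 4)
  rw [← eq_mkV] at this
  exact this h h1

def wB (v w : V5) : Bool := !(decide (ev v = 1)) || decide (v = 1) || !(decide (ev w = 1)) || decide (w = 1) ||
  decide (v = w) || w2 v || w2 w || w2 (v * w)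

theorem w_pair' : ∀ a b c d e a' b' c' d' e' : C2, wB (mkV a b c d e) (mkV a' b' c' d' e') = true := by
  decide +kernel

theorem w_pair (v w : V5) (h : ev v = 1) (h1 : v ≠ 1) (h' : ev w = 1) (h1' : w ≠ 1) (hne : v ≠ w) :
    w2 v = true ∨ w2 w = true ∨ w2 (v * w) = true := by
  have := w_pair' (v 0) (v 1) (v 2) (v 3) (v 4) (w 0) (w 1) (w 2) (w 3) (w 4)
  rw [← eq_mkV, ← eq_mkV, wB] at this
  simp only [h, h', h1, h1', hne, decide_true, decide_false, Bool.not_true, Bool.false_or, Bool.or_eq_true] at this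
  tauto

theorem w2_spec {v : V5} (h : w2 v = true) : ∃ i j : Fin 5, i ≠ j ∧ v = Pi.mulSingle i gg * Pi.mulSingle j gg := by
  rw [w2, List.any_eq_true] at h
  obtain ⟨i, -, h⟩ := h
  rw [List.any_eq_true] at h
  obtain ⟨j, -, h⟩ := h
  rw [Bool.and_eq_true, decide_eq_true_eq, decide_eq_true_eq] at h
  exact ⟨i, j, h.1.ne, h.2⟩

theorem w4_spec {v : V5} (h : w4 v = true) : ∃ i j k l : Fin 5, i ≠ j ∧ k ≠ l ∧ i ≠ k ∧ i ≠ l ∧
    v = Pi.mulSingle i gg * Pi.mulSingle j gg * (Pi.mulSingle k gg * Pi.mulSingle l gg) := by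
  rw [w4, List.any_eq_true] at h
  obtain ⟨i, -, h⟩ := h
  rw [List.any_eq_true] at h
  obtain ⟨j, -, h⟩ := h
  rw [List.any_eq_true] at h
  obtain ⟨k, -, h⟩ := h
  rw [List.any_eq_true] at h
  obtain ⟨l, -, h⟩ := h
  rw [Bool.and_eq_true, Bool.and_eq_true, Bool.and_eq_true, decide_eq_true_eq, decide_eq_true_eq, decide_eq_true_eq,
    decide_eq_true_eq] at h
  obtain ⟨⟨⟨h1, h2⟩, h3⟩, h4⟩ := h
  exact ⟨i, j, k, l, h1.ne, h3.ne, (h1.trans h2).ne, ((h1.trans h2).trans h3).ne, h4⟩

/-! ### The group generated by five commuting transpositions -/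

/-- the homomorphism of an involution -/
def hom2 {F : Type u} [Group F] (a : F) (h : a * a = 1) : C2 →* F where
  toFun x := if x = 1 then 1 else a
  map_one' := by simp
  map_mul' x y := by
    have hx : x = 1 ∨ x = gg := by revert x; decide
    have hy : y = 1 ∨ y = gg := by revert y; decide
    have e1 : gg ≠ (1 : C2) := by decide
    have e2 : gg * gg = (1 : C2) := by decide
    rcases hx with rfl | rfl <;> rcases hy with rfl | rfl <;> simp [e1, e2, h]

theorem hom2_gg {F : Type u} [Group F] (a : F) (h : a * a = 1) : hom2 a h gg = a := by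
  have e1 : gg ≠ (1 : C2) := by decide
  show (if gg = (1 : C2) then (1 : F) else a) = a
  rw [if_neg e1]

theorem hom2_comm {F : Type u} [Group F] {a b : F} (ha : a * a = 1) (hb : b * b = 1) (hab : Commute a b) (x y : C2) :
    Commute (hom2 a ha x) (hom2 b hb y) := by
  show Commute (if x = 1 then 1 else a) (if y = 1 then 1 else b)
  split_ifs
  · exact Commute.refl _
  · exact Commute.one_left _
  · exact Commute.one_right _
  · exact hab

section

variable {F : Type u} [Group F] {L : Set F} (hL : Tr L) {d : Fin 5 → F} (dL : ∀ i, d i ∈ L)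
  (dc : ∀ i j, Commute (d i) (d j))

include dc in
theorem pw_comm : Pairwise fun i j => ∀ (x y : C2), Commute (hom2 (d i) (hL.sq _ (dL i)) x) (hom2 (d j) (hL.sq _ (dL j)) y) :=
  fun i j _ x y => hom2_comm (hL.sq _ (dL i)) (hL.sq _ (dL j)) (dc i j) x y

/-- the map from `2 ^ 5` -/
noncomputable def fF : V5 →* F :=
  MonoidHom.noncommPiCoprod (fun i => hom2 (d i) (hL.sq _ (dL i)))
    (pw_comm hL dL dc)

theorem fF_single (i : Fin 5) : fF hL dL dc (Pi.mulSingle i gg) = d i :=
  (MonoidHom.noncommPiCoprod_mulSingle (hcomm := pw_comm hL dL dc) (fun i => hom2 (d i) (hL.sq _ (dL i))) i gg).trans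
    (hom2_gg _ _)

/-- one coordinate -/
def sg (i : Fin 5) (x : C2) : V5 := Pi.mulSingle i x

theorem eq_singles (v : V5) : v = sg 0 (v 0) * sg 1 (v 1) * sg 2 (v 2) * sg 3 (v 3) * sg 4 (v 4) := by
  funext i
  fin_cases i <;> simp [sg, Pi.mulSingle, Function.update]

theorem sgn_fF {s : F →* C2} (hs : ∀ a ∈ L, s a = gg) (v : V5) : s (fF hL dL dc v) = ev v := by
  have h1 : ∀ (i : Fin 5) (x : C2), s (fF hL dL dc (sg i x)) = x := by
    intro i x
    have hx : x = 1 ∨ x = gg := by revert x; decide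
    rcases hx with rfl | rfl
    · rw [sg, Pi.mulSingle_one, map_one, map_one]
    · rw [sg, fF_single, hs _ (dL i)]
  conv_lhs => rw [eq_singles v]
  rw [map_mul, map_mul, map_mul, map_mul, map_mul, map_mul, map_mul, map_mul, h1, h1, h1, h1, h1, ev]

theorem fF_inj {s : F →* C2} (hs : ∀ a ∈ L, s a = gg) (di : Function.Injective d) :
    Function.Injective (fF hL dL dc) := by
  rw [injective_iff_map_eq_one]
  intro v hv
  by_contra h1
  have h2 : ev v = 1 := by rw [← sgn_fF hL dL dc hs v, hv, map_one]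
  rcases w24 v h2 h1 with h | h
  · obtain ⟨i, j, hij, rfl⟩ := w2_spec h
    rw [map_mul, fF_single, fF_single] at hv
    apply hij
    apply di
    have h3 := hL.sq _ (dL j)
    exact mul_right_cancel (hv.trans h3.symm)
  · obtain ⟨i, j, k, l, hij, hkl, hik, hil, rfl⟩ := w4_spec h
    rw [map_mul, map_mul, map_mul, fF_single, fF_single, fF_single, fF_single] at hv
    have h3 : (d k * d l) * (d k * d l) = 1 := by
      rw [show d k * d l * (d k * d l) = d k * (d l * d k) * d l by group, (dc l k).eq,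
        show d k * (d k * d l) * d l = (d k * d k) * (d l * d l) by group, hL.sq _ (dL k), hL.sq _ (dL l), one_mul]
    have h4 : d i * d j = d k * d l := mul_right_cancel (hv.trans h3.symm)
    rcases pair_unique hL (dL i) (dL j) (dL k) (dL l) (dc i j) (fun h => hij (di h)) (dc k l) h4 with ⟨h5, -⟩ | ⟨-, h5⟩
    · exact hik (di h5.symm)
    · exact hil (di h5.symm)

include hL in
/-- the fixed pair -/
theorem odd_pair {g a b : F} (ho : Odd (orderOf g)) (ha : a ∈ L) (hb : b ∈ L) (hab : Commute a b) (hne : a ≠ b)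
    (hg : Commute g (a * b)) : Commute g a := by
  have e1 : (g * a * g⁻¹) * (g * b * g⁻¹) = a * b := by
    rw [show (g * a * g⁻¹) * (g * b * g⁻¹) = g * (a * b) * g⁻¹ by group, hg.eq]; group
  have hc : Commute (g * a * g⁻¹) (g * b * g⁻¹) := by
    show (g * a * g⁻¹) * (g * b * g⁻¹) = (g * b * g⁻¹) * (g * a * g⁻¹)
    rw [show (g * a * g⁻¹) * (g * b * g⁻¹) = g * (a * b) * g⁻¹ by group, hab.eq]; group
  rcases pair_unique hL ha hb (hL.conj g a ha) (hL.conj g b hb) hab hne hc e1.symm with ⟨h1, -⟩ | ⟨h1, h2⟩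
  · show g * a = a * g
    rw [mul_inv_eq_iff_eq_mul] at h1
    exact h1
  · have h3 : Commute (g ^ 2) a := by
      show g ^ 2 * a = a * g ^ 2
      rw [mul_inv_eq_iff_eq_mul] at h1 h2
      rw [pow_two, mul_assoc, h1, ← mul_assoc, h2, mul_assoc]
    obtain ⟨k, hk⟩ := ho
    have h4 : g = (g ^ 2) ^ (k + 1) := by
      rw [← pow_mul, show 2 * (k + 1) = 2 * k + 1 + 1 by ring, ← hk, pow_succ, pow_orderOf_eq_one, one_mul]
    rw [h4]
    exact h3.pow_left _

include hL dL dc in
theorem two_part_gen [Finite F] {s : F →* C2} (hs : ∀ a ∈ L, s a = gg) (di : Function.Injective d) {C T : Subgroup F}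
    (hC : ¬ 2 ^ 12 ∣ Nat.card C) (dC : ∀ i, d i ∈ C) (hT : T ≤ C) (cT : Nat.card T = 2 ^ 8) (sT : ∀ t ∈ T, s t = 1)
    {g : F} (ho : Odd (orderOf g)) (gT : ∀ t ∈ T, Commute g t) (hD : ∀ d ∈ L, ¬ Commute g d) : False := by
  let E : Subgroup F := (fF hL dL dc).range
  have cE : Nat.card E = 2 ^ 5 := by
    have h1 : Nat.card E = Nat.card V5 :=
      Nat.card_congr ((MonoidHom.ofInjective (fF_inj hL dL dc hs di)).symm.toEquiv)
    rw [h1, Nat.card_fun, Nat.card_eq_fintype_card, Nat.card_eq_fintype_card]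
    rfl
  have mem_one : ∀ (i : Fin 5) (x : C2), fF hL dL dc (sg i x) ∈ C := by
    intro i x
    have hx : x = 1 ∨ x = gg := by revert x; decide
    rcases hx with rfl | rfl
    · rw [sg, Pi.mulSingle_one, map_one]; exact C.one_mem
    · rw [sg, fF_single]; exact dC i
  have hE : E ≤ C := by
    rintro _ ⟨v, rfl⟩
    rw [eq_singles v, map_mul, map_mul, map_mul, map_mul]
    exact C.mul_mem (C.mul_mem (C.mul_mem (C.mul_mem (mem_one _ _) (mem_one _ _)) (mem_one _ _)) (mem_one _ _))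
      (mem_one _ _)
  obtain ⟨h, hh⟩ := exists_inter (n := 11) (m := 2) hT hE cT cE hC (by norm_num)
  let ψ : V5 →* F := (MulAut.conj h).toMonoidHom.comp (fF hL dL dc)
  have hψ : ∀ v, ψ v = h * fF hL dL dc v * h⁻¹ := fun v => rfl
  let W : Subgroup V5 := T.comap ψ
  have hinj : Function.Injective ψ := (MulAut.conj h).injective.comp (fF_inj hL dL dc hs di)
  have hmap : W.map ψ = T ⊓ E.map (MulAut.conj h).toMonoidHom := by
    rw [Subgroup.map_comap_eq, inf_comm]
    congr 1
    show ((MulAut.conj h).toMonoidHom.comp (fF hL dL dc)).range = _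
    rw [MonoidHom.range_comp]
  have cW : 4 ≤ Nat.card W := by
    have h1 : Nat.card W = Nat.card (W.map ψ) := Nat.card_congr (W.equivMapOfInjective ψ hinj).toEquiv
    rw [h1, hmap]
    exact hh
  -- two different nontrivial members
  have hex : ∃ v ∈ W, ∃ w ∈ W, v ≠ 1 ∧ w ≠ 1 ∧ v ≠ w := by
    by_contra hcon
    push Not at hcon
    have h3 : (W : Set V5).ncard ≤ 2 := by
      by_cases hv : ∃ v ∈ W, v ≠ 1
      · obtain ⟨v, hv, hv1⟩ := hv
        have : (W : Set V5) ⊆ {1, v} := by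
          intro w hw
          by_cases h1 : w = 1
          · exact Or.inl h1
          · exact Or.inr (hcon v hv w hw hv1 h1).symm
        exact (Set.ncard_le_ncard this (Set.toFinite _)).trans ((Set.ncard_insert_le _ _).trans (by simp))
      · push Not at hv
        have : (W : Set V5) ⊆ {1} := fun w hw => hv w hw
        exact (Set.ncard_le_ncard this (Set.toFinite _)).trans (by simp)
    have h4 : (W : Set V5).ncard = Nat.card W := rfl
    omega
  have hev : ∀ v ∈ W, ev v = 1 := by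
    intro v hv
    have h1 := sT _ hv
    rw [hψ, map_mul, map_mul, mul_comm (s h), mul_assoc, ← map_mul, mul_inv_cancel, map_one, mul_one,
      sgn_fF hL dL dc hs v] at h1
    exact h1
  have key : ∀ v ∈ W, w2 v = true → False := by
    intro v hv hw
    obtain ⟨i, j, hij, rfl⟩ := w2_spec hw
    have h1 : h * (d i * d j) * h⁻¹ ∈ T := by
      have := hv
      rw [Subgroup.mem_comap, hψ, map_mul, fF_single, fF_single] at this
      exact this
    have h2 : h * (d i * d j) * h⁻¹ = (h * d i * h⁻¹) * (h * d j * h⁻¹) := by group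
    have h3 := gT _ h1
    rw [h2] at h3
    refine hD _ (hL.conj h _ (dL i)) (odd_pair hL ho (hL.conj h _ (dL i)) (hL.conj h _ (dL j)) ?_ ?_ h3)
    · show h * d i * h⁻¹ * (h * d j * h⁻¹) = h * d j * h⁻¹ * (h * d i * h⁻¹)
      rw [← h2, (dc i j).eq]
      group
    · intro h4
      apply hij
      apply di
      exact mul_left_cancel (mul_right_cancel h4)
  obtain ⟨v, hv, w, hw, h1, h2, h3⟩ := hex
  rcases w_pair v w (hev v hv) h1 (hev w hw) h2 h3 with h4 | h4 | h4
  · exact key v hv h4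
  · exact key w hw h4
  · exact key (v * w) (W.mul_mem hv hw) h4

end

/-! ### `Fi24` -/

open Cfsg.Agent.H841.Tri
open Cfsg.Agent.LThreeFi24.SNine (x3)
open Cfsg.Spor (Fi24)

theorem finite24 : Finite Fi24 := Cfsg.Agent.R08.FiTwentyFour.finite_Fi24

/-- the sign -/
theorem exists_s : ∃ s : Fi24 →* C2, (∀ a ∈ Cfsg.Agent.R08.FiTwentyFour.L, s a = gg) ∧ ∀ a ∈ commutator Fi24, s a = 1 := by
  let u : ℤˣ →* C2 := MonoidHom.mk' (fun x => if x = 1 then 1 else Multiplicative.ofAdd 1) (by decide)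
  refine ⟨u.comp Cfsg.Agent.Fischer.Fi24Final.sgn, ?_, ?_⟩
  · intro t ht
    show u (Cfsg.Agent.Fischer.Fi24Final.sgn t) = _
    rw [Cfsg.Agent.R08.FiTwentyFour.sgn_L ht]
    decide
  · intro t ht
    show u (Cfsg.Agent.Fischer.Fi24Final.sgn t) = _
    rw [Cfsg.Agent.R08.FiTwentyFour.mem_commutator_iff.1 ht, map_one]

/-- the 2-part of `|C(x3)|` -/
theorem not_dvd_C : ¬ 2 ^ 12 ∣ Nat.card (Subgroup.centralizer ({x3} : Set Fi24)) := by
  have hfin := finite24
  have hle : Subgroup.centralizer ({x3} : Set Fi24) ≤ NX := fun g hg =>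
    mem_NX_of_comm (mem_centralizer_singleton_iff.1 hg)
  have hmem : ∀ g : NX, g ∈ (Subgroup.centralizer ({x3} : Set Fi24)).subgroupOf NX ↔ (g : Fi24) * x3 * (g : Fi24)⁻¹ = x3 := by
    intro g
    rw [mem_subgroupOf, mem_centralizer_singleton_iff, mul_inv_eq_iff_eq_mul]
  have hidx : ((Subgroup.centralizer ({x3} : Set Fi24)).subgroupOf NX).index = 2 := by
    obtain ⟨n, hn⟩ := exists_inv
    have hn1 : (n : Fi24) * x3 * (n : Fi24)⁻¹ ≠ x3 := fun h => hn (Subtype.ext h)
    have hn2 : (n : Fi24) * x3 * (n : Fi24)⁻¹ = x3⁻¹ := (mem_NX.1 n.2).resolve_left hn1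
    have hx : x3⁻¹ ≠ x3 := fun h => hn1 (hn2.trans h)
    rw [Subgroup.index_eq_two_iff]
    refine ⟨n, fun b => ?_⟩
    rw [hmem, hmem]
    have e1 : ((b * n : NX) : Fi24) * x3 * ((b * n : NX) : Fi24)⁻¹ = (b : Fi24) * x3⁻¹ * (b : Fi24)⁻¹ := by
      rw [← hn2, Subgroup.coe_mul]
      group
    rw [e1]
    have e2 : (b : Fi24) * x3⁻¹ * (b : Fi24)⁻¹ = ((b : Fi24) * x3 * (b : Fi24)⁻¹)⁻¹ := by group
    rw [e2]
    rcases mem_NX.1 b.2 with h | h
    · rw [h]
      exact Or.inr ⟨rfl, hx⟩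
    · rw [h, inv_inv]
      exact Or.inl ⟨rfl, hx⟩
  have h1 := Subgroup.card_mul_index ((Subgroup.centralizer ({x3} : Set Fi24)).subgroupOf NX)
  rw [hidx, card_NX, Nat.card_congr (subgroupOfEquivOfLe hle).toEquiv] at h1
  intro h
  have h2 : 2 ^ 12 * 2 ∣ 3 ^ 11 * (2 * (2 * 13685760)) := by
    rw [← h1]
    exact Nat.mul_dvd_mul_right h 2
  revert h2
  norm_num

/-- **the 2-part of the centralizer of an element of odd order over `x3`** -/
theorem two_part {g : Fi24} (hx : Commute g x3) (ho : Odd (orderOf g))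
    (hD : ∀ d ∈ Cfsg.Agent.R08.FiTwentyFour.L, ¬ Commute g d) :
    ¬ (2 ^ 8 ∣ Nat.card (centralizer {g} ⊓ centralizer {x3} ⊓ commutator Fi24 : Subgroup Fi24)) := by
  have hfin := finite24
  intro h
  have : Fact (Nat.Prime 2) := ⟨Nat.prime_two⟩
  obtain ⟨K, hK⟩ := Sylow.exists_subgroup_card_pow_prime 2 h
  let T : Subgroup Fi24 := K.map (Subgroup.subtype _)
  have cT : Nat.card T = 2 ^ 8 := by
    rw [← hK]
    exact Nat.card_congr (K.equivMapOfInjective _ (Subgroup.subtype_injective _)).symm.toEquiv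
  have hT : ∀ t ∈ T, t ∈ (centralizer {g} ⊓ centralizer {x3} ⊓ commutator Fi24 : Subgroup Fi24) := by
    rintro _ ⟨x, -, rfl⟩
    exact x.2
  obtain ⟨s, hs, hs'⟩ := exists_s
  refine two_part_gen Cfsg.Agent.R08.TetFi24A.tr (d := dd) (C := centralizer {x3}) (T := T) (g := g) ?_ dd_comm hs ?_
    not_dvd_C ?_ ?_ cT ?_ ho ?_ hD
  · exact fun i => (dd_mem i).1
  · intro i j hij
    apply pd_inj
    have h1 := isPt_dd i
    rw [hij] at h1
    exact h1.uniq (isPt_dd j)
  · intro i
    rw [mem_centralizer_singleton_iff]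
    exact (dd_mem i).2
  · intro t ht
    exact (hT t ht).1.2
  · intro t ht
    exact hs' t (hT t ht).2
  · intro t ht
    exact (show Commute t g from mem_centralizer_singleton_iff.1 (hT t ht).1.1).symm

end Cfsg.Agent.H48.OreFi.TwoPart
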