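import Cfsg.Agent.H48.OreFi.Frame
import Cfsg.Agent.H98.Ex2.FiTwoB
import Cfsg.Agent.R08.TetFi24C
import Cfsg.Agent.H49.Four.ThreeInv
import Cfsg.Agent.H854.Ore.Fi24Two

/-!
# The row `Fi24'` of the Ore conjecture (helper48, for S2443)
-/

set_option autoImplicit false
set_option maxRecDepth 100000

namespace Cfsg.Agent.H48.OreFi

open Subgroup
open Cfsg Cfsg.Agent.Characters Cfsg.Agent.H777.Ore
open Cfsg.Agent.R08.FiTwentyFour (L)

/-- the bound for the involutions `a b` (`a`, `b` commuting transpositions) -/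
def BdA : Prop := ∀ (z s : Spor.Fi24') (a b : Spor.Fi24), a ∈ L → b ∈ L → a ≠ b → Commute a b → (z : Spor.Fi24) = a * b →
  orderOf s = 3 → Commute z s →
    Nat.card (centralizer ({z} : Set Spor.Fi24') ⊓ centralizer ({s} : Set Spor.Fi24') : Subgroup Spor.Fi24') ≤ 78382080

/-- all involutions -/
theorem bound_zs (hA : BdA) (z s : Spor.Fi24') (hz : orderOf z = 2) (hs : orderOf s = 3) (hzs : Commute z s) :
    Nat.card (centralizer ({z} : Set Spor.Fi24') ⊓ centralizer ({s} : Set Spor.Fi24') : Subgroup Spor.Fi24') ≤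
      78382080 := by
  have hz2 : z * z = 1 := by rw [← pow_two, ← hz]; exact pow_orderOf_eq_one z
  have hz1 : z ≠ 1 := by rintro rfl; rw [orderOf_one] at hz; omega
  rcases Cfsg.Agent.R08.TetFi24C.facts.invol (z : Spor.Fi24) z.2 (by
    have := congrArg (Subtype.val) hz2
    exact this) (fun h => hz1 (Subtype.ext h)) with ⟨a, ha, b, hb, hab, hc, he⟩ | ⟨a, b, c, d, hT⟩
  · exact hA z s a b ha hb hab hc he hs hzs
  · exact Cfsg.Agent.H98.Ex2.FiTwoB.bound hT hs hzs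

/-- **the row, given the bound for `2A`, the elements of order `9`, `27` and the degrees** -/
theorem allC_of (hA : BdA) (h9 : ∀ (g : Spor.Fi24') (b : ℕ), 2 ≤ b → orderOf g = 3 ^ b →
      IsC g ∨ Nat.card (centralizer ({g} : Set Spor.Fi24')) ≤ 78382080)
    {DN DX : ℕ} (hnum : (78382080 - 1) * ((14 - 1) * 2 * DX ^ 2 + (29 - 14) ^ 2 * DN ^ 2) < 2 * DN ^ 2 * DX ^ 2)
    (hnum' : (141 - 1) * (29 - 1) < (min DN DX) ^ 2)
    (hDN : ∀ χ : IrrCharacter Spor.Fi24', (χ : Spor.Fi24' → ℂ) ≠ 1 →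
      (charDegree (χ : Spor.Fi24' → ℂ) % 29 = 1 ∨ charDegree (χ : Spor.Fi24' → ℂ) % 29 = 28) →
        DN ≤ charDegree (χ : Spor.Fi24' → ℂ))
    (hDX : ∀ χ : IrrCharacter Spor.Fi24', (χ : Spor.Fi24' → ℂ) ≠ 1 →
      (charDegree (χ : Spor.Fi24' → ℂ) % 29 = 14 ∨ charDegree (χ : Spor.Fi24' → ℂ) % 29 = 15) →
        DX ≤ charDegree (χ : Spor.Fi24' → ℂ)) : AllC Spor.Fi24' := by
  have key : ∀ g : Spor.Fi24', Nat.card (centralizer ({g} : Set Spor.Fi24')) ≤ 78382080 → IsC g := fun g hg =>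
    comm_of_cent' hnum hnum' hDN hDX hg
  refine cases' (P := fun g => IsC g) key (fun g n hg => Cfsg.Agent.H854.Ore.Fi24.two_comm hg) (fun g hg => ?_)
    (fun g b hb hg => (h9 g b hb hg).elim id (key g)) (bound_zs hA)
  obtain ⟨a, b, h⟩ := Cfsg.Agent.H49.Four.ThreeInv.three_comm hg
  exact ⟨a, b, h.symm⟩

theorem ore_of {S : Type*} [Group S] (h : Spor.IsoFi24' S) (hF : AllC Spor.Fi24') : AllC S := by
  obtain ⟨e⟩ := h
  exact AllC.congr e.symm hF

end Cfsg.Agent.H48.OreFi
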