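import Cfsg.Agent.H48.OreFi.NineA
import Cfsg.Agent.H48.OreFi.Row

/-!
# `Fi24'`: the elements of order 9 and 27: the case split (helper48)

* `isC_of_fix` : elements commuting with a transposition are commutators, given the row `Fi23`;
* `Wd i` : the bound for the elements of 3-power order ≥ 9 commuting with no transposition, whose power of order 3 is
  conjugate to `ThreeCl.X i` or its inverse; `Wd.of_X` : it is enough to prove it for the power equal to `X i`;
* `h9_of` : the input `h9` of `allC_of` from `Wd 1` (width 6), `Wd 2` (width 5), `Wd 4` (width 0).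
-/

set_option autoImplicit false
set_option maxRecDepth 100000

namespace Cfsg.Agent.H48.OreFi.Nine

open Subgroup
open Cfsg Cfsg.Agent.Characters Cfsg.Agent.H777.Ore
open Cfsg.Agent.R08.FiTwentyFour (L facts mem_commutator_iff)
open Cfsg.Agent.H842.ThreeCl (X)
open Cfsg.Spor (Fi24)

/-! ### A fixed transposition -/

theorem isC_of_fix (h23 : AllC Spor.Fi23) {g : Spor.Fi24'} {d : Fi24} (hd : d ∈ L) (hg : Commute (g : Fi24) d) :
    IsC g := by
  obtain ⟨c, rfl⟩ := isConj_iff.1 (show IsConj (Cfsg.Agent.Fischer.Fi24Class.gen .l) d from hd)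
  have h1 : (c⁻¹ * (g : Fi24) * c) * Cfsg.Agent.Fischer.Fi24Class.gen .l =
      Cfsg.Agent.Fischer.Fi24Class.gen .l * (c⁻¹ * (g : Fi24) * c) := by
    calc (c⁻¹ * (g : Fi24) * c) * Cfsg.Agent.Fischer.Fi24Class.gen .l
        = c⁻¹ * ((g : Fi24) * (c * Cfsg.Agent.Fischer.Fi24Class.gen .l * c⁻¹)) * c := by group
      _ = c⁻¹ * ((c * Cfsg.Agent.Fischer.Fi24Class.gen .l * c⁻¹) * (g : Fi24)) * c := by rw [hg.eq]
      _ = Cfsg.Agent.Fischer.Fi24Class.gen .l * (c⁻¹ * (g : Fi24) * c) := by group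
  have h2 : Cfsg.Agent.Fischer.Fi24Final.sgn (c⁻¹ * (g : Fi24) * c) = 1 := by
    rw [map_mul, map_mul, map_inv, mem_commutator_iff.1 g.2, mul_one, inv_mul_cancel]
  obtain ⟨k, hk⟩ := (facts.mem_range_iff _).2 ⟨h1, h2⟩
  obtain ⟨a, b, hab⟩ := h23 k
  have hn : ∀ x : Spor.Fi23, c * facts.phi x * c⁻¹ ∈ commutator Fi24 := by
    intro x
    rw [mem_commutator_iff, map_mul, map_mul, map_inv, facts.sgn_phi, mul_one, mul_inv_cancel]
  refine ⟨⟨_, hn a⟩, ⟨_, hn b⟩, ?_⟩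
  apply Subtype.ext
  show (g : Fi24) = c * facts.phi a * c⁻¹ * (c * facts.phi b * c⁻¹) * (c * facts.phi a * c⁻¹)⁻¹ *
    (c * facts.phi b * c⁻¹)⁻¹
  have e1 : (g : Fi24) = c * facts.phi k * c⁻¹ := by rw [hk]; group
  rw [e1, hab, map_mul, map_mul, map_mul, map_inv, map_inv]
  group

/-! ### The remaining widths -/

/-- the bound over `X i` -/
def Wd (i : Fin 5) : Prop := ∀ (g s : Spor.Fi24') (b : ℕ), 2 ≤ b → orderOf g = 3 ^ b → s = g ^ 3 ^ (b - 1) →
  (∀ d ∈ L, ¬ Commute (g : Fi24) d) → (∃ y : Fi24, y * (s : Fi24) * y⁻¹ = X i ∨ y * (s : Fi24) * y⁻¹ = (X i)⁻¹) →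
    Nat.card (centralizer ({g} : Set Spor.Fi24')) ≤ 78382080

/-- conjugation by an element of `Fi24` -/
noncomputable def cj (y : Fi24) : Spor.Fi24' ≃* Spor.Fi24' := MulAut.conjNormal y

theorem coe_cj (y : Fi24) (g : Spor.Fi24') : ((cj y g : Spor.Fi24') : Fi24) = y * (g : Fi24) * y⁻¹ :=
  MulAut.conjNormal_apply y g

theorem card_cent_equiv {G : Type*} [Group G] (e : G ≃* G) (g : G) :
    Nat.card (centralizer ({e g} : Set G)) = Nat.card (centralizer ({g} : Set G)) := by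
  refine (Nat.card_congr (Equiv.subtypeEquiv e.toEquiv fun x => ?_)).symm
  rw [mem_centralizer_singleton_iff]
  show x * g = g * x ↔ e x ∈ centralizer ({e g} : Set G)
  rw [mem_centralizer_singleton_iff, ← map_mul, ← map_mul, e.injective.eq_iff]

theorem card_cent_inv {G : Type*} [Group G] (g : G) :
    Nat.card (centralizer ({g⁻¹} : Set G)) = Nat.card (centralizer ({g} : Set G)) := by
  have : centralizer ({g⁻¹} : Set G) = centralizer ({g} : Set G) := by
    ext x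
    rw [mem_centralizer_singleton_iff, mem_centralizer_singleton_iff]
    exact Commute.inv_right_iff
  rw [this]

theorem Wd.of_X {i : Fin 5} (h : ∀ (g : Spor.Fi24') (b : ℕ), 2 ≤ b → orderOf g = 3 ^ b → (g : Fi24) ^ 3 ^ (b - 1) = X i →
    (∀ d ∈ L, ¬ Commute (g : Fi24) d) → Nat.card (centralizer ({g} : Set Spor.Fi24')) ≤ 78382080) : Wd i := by
  intro g s b hb hg hs hD ⟨y, hy⟩
  have hgy : orderOf (cj y g) = 3 ^ b := by rw [MulEquiv.orderOf_eq, hg]
  have hDy : ∀ d ∈ L, ¬ Commute ((cj y g : Spor.Fi24') : Fi24) d := by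
    intro d hd hc
    rw [coe_cj] at hc
    apply hD (y⁻¹ * d * y)
    · have := Cfsg.Agent.R08.FiTwentyFour.conj hd y⁻¹
      rwa [inv_inv] at this
    · show (g : Fi24) * (y⁻¹ * d * y) = y⁻¹ * d * y * (g : Fi24)
      calc (g : Fi24) * (y⁻¹ * d * y) = y⁻¹ * ((y * (g : Fi24) * y⁻¹) * d) * y := by group
        _ = y⁻¹ * (d * (y * (g : Fi24) * y⁻¹)) * y := by rw [hc.eq]
        _ = y⁻¹ * d * y * (g : Fi24) := by group
  have hpow : ((cj y g : Spor.Fi24') : Fi24) ^ 3 ^ (b - 1) = y * (s : Fi24) * y⁻¹ := by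
    rw [coe_cj, conj_pow, hs]
    rfl
  rcases hy with hy | hy
  · rw [← card_cent_equiv (cj y) g]
    exact h (cj y g) b hb hgy (hpow.trans hy) hDy
  · rw [← card_cent_equiv (cj y) g, ← card_cent_inv]
    refine h (cj y g)⁻¹ b hb (by rw [orderOf_inv, hgy]) ?_ ?_
    · show (((cj y g : Spor.Fi24') : Fi24)⁻¹) ^ 3 ^ (b - 1) = X i
      rw [inv_pow, hpow, hy, inv_inv]
    · intro d hd hc
      exact hDy d hd (Commute.inv_left_iff.1 hc)

/-- **the orders 9 and 27** -/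
theorem h9_of (h23 : AllC Spor.Fi23) (h1 : Wd 1) (h2 : Wd 2) (h4 : Wd 4) (g : Spor.Fi24') (b : ℕ) (hb : 2 ≤ b)
    (hg : orderOf g = 3 ^ b) : IsC g ∨ Nat.card (centralizer ({g} : Set Spor.Fi24')) ≤ 78382080 := by
  by_cases hD : ∃ d ∈ L, Commute (g : Fi24) d
  · obtain ⟨d, hd, hc⟩ := hD
    exact Or.inl (isC_of_fix h23 hd hc)
  · right
    push Not at hD
    obtain ⟨s, hs⟩ : ∃ s, s = g ^ 3 ^ (b - 1) := ⟨_, rfl⟩
    have ho : orderOf s = 3 := by
      rw [hs, orderOf_pow, hg]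
      obtain ⟨c, rfl⟩ : ∃ c, b = c + 1 := ⟨b - 1, by omega⟩
      rw [Nat.add_sub_cancel, Nat.gcd_eq_right (pow_dvd_pow 3 (Nat.le_succ c)), pow_succ,
        Nat.mul_div_cancel_left _ (by positivity)]
    have hs3' : s ^ 3 = 1 := by rw [← ho]; exact pow_orderOf_eq_one s
    have hs3 : (s : Fi24) ^ 3 = 1 := congrArg Subtype.val hs3'
    have hs1' : s ≠ 1 := by rintro h; rw [h, orderOf_one] at ho; omega
    have hs1 : (s : Fi24) ≠ 1 := fun h => hs1' (Subtype.ext h)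
    obtain ⟨i, y, hy⟩ := Cfsg.Agent.H842.ThreeCl.all Cfsg.Agent.H49.Four.TEight.fgroup24' Cfsg.Agent.H49.Four.TEight.isT8
      hs3 hs1
    have hi : ∀ i : Fin 5, i = 0 ∨ i = 1 ∨ i = 2 ∨ i = 3 ∨ i = 4 := by decide
    rcases hi i with rfl | rfl | rfl | rfl | rfl
    · exfalso
      have e1 : (s : Fi24) = ((g ^ 3 ^ (b - 2) : Spor.Fi24') : Fi24) ^ 3 := by
        rw [hs]
        show (g : Fi24) ^ 3 ^ (b - 1) = ((g : Fi24) ^ 3 ^ (b - 2)) ^ 3
        rw [← pow_mul, ← pow_succ]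
        congr 2
        omega
      rw [e1] at hy
      exact NineA.zero_false hy
    · exact h1 g s b hb hg hs hD ⟨y, hy⟩
    · exact h2 g s b hb hg hs hD ⟨y, hy⟩
    · refine (NineA.two_bound ?_ hD (s := s) ?_ hs3 hs1 ?_).trans (by norm_num)
      · rw [hg]; exact Odd.pow (by decide)
      · intro x hx
        rw [hs]; exact hx.pow_right _
      · rw [NineA.width_of hy]; rfl
    · exact h4 g s b hb hg hs hD ⟨y, hy⟩

end Cfsg.Agent.H48.OreFi.Nine
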