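import Cfsg.Agent.H832.WTwo.Main
import Cfsg.Agent.H842.ThreeMain
import Cfsg.Agent.H840.NormX
import Cfsg.Agent.H840.Lk
import Cfsg.Agent.H841.TwA
import Cfsg.Agent.H49.Four.ThreeInv
import Cfsg.Agent.R08.TetFi24A

/-!
# `Fi24'`: elements of order 9 and 27 whose power of order 3 has width 8 or 2 (helper48)

* `zero_false` : the cube of no element which commutes with no transposition has width 8;
* `two_bound` : the power `s` of order 3 of `g` of width 2: `|C(g)| ≤ 78382080`.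
-/

set_option autoImplicit false
set_option maxRecDepth 100000

namespace Cfsg.Agent.H48.OreFi.NineA

open Subgroup
open Cfsg.Agent.R08.TetBasic (Tr pair_unique)
open Cfsg.Agent.Fischer480.Defs (FGroup)

universe u

/-! ### Abstract part -/

section

variable {F : Type u} [Group F] [Finite F] {D : Set F}

/-- an element commuting with `a b` has its cube commuting with `a` -/
theorem cube_comm (hF : FGroup D) {a b h : F} (ha : a ∈ D) (hb : b ∈ D) (hn : ¬ Commute a b)
    (hh : Commute h (a * b)) : Commute (h ^ 3) a := by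
  have fd := Cfsg.Agent.H840.NormX.fd hF
  have hmem : h * a * h⁻¹ ∈ D := fd.conj h a ha
  have hinv : (h * a * h⁻¹) * (a * b) * (h * a * h⁻¹)⁻¹ = (a * b)⁻¹ := by
    have e1 : h⁻¹ * (a * b) * h = a * b := by rw [mul_assoc, ← hh.eq]; group
    have e2 : h * (a * b)⁻¹ * h⁻¹ = (a * b)⁻¹ := by
      rw [hh.inv_right.eq, mul_assoc, mul_inv_cancel, mul_one]
    calc (h * a * h⁻¹) * (a * b) * (h * a * h⁻¹)⁻¹ = h * (a * (h⁻¹ * (a * b) * h) * a⁻¹) * h⁻¹ := by group
      _ = h * (a * (a * b) * a⁻¹) * h⁻¹ := by rw [e1]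
      _ = h * (a * b)⁻¹ * h⁻¹ := by rw [Cfsg.Agent.H840.NormX.left_inverts fd ha hb]
      _ = (a * b)⁻¹ := e2
  have hcube := Cfsg.Agent.H840.NormX.cube fd ha hb hn
  have sqa := fd.sq a ha
  have sqb := fd.sq b hb
  have hbr : a * b * a = b * a * b := fd.braid a ha b hb hn
  -- `h a h⁻¹ = v a v⁻¹` with `v` a power of `a b`
  have key : ∃ v : F, v ^ 3 = 1 ∧ Commute h v ∧ h * a * h⁻¹ = v * a * v⁻¹ := by
    have eb : (a * b)⁻¹ = b * a := Cfsg.Agent.H840.NormX.inv_mul fd ha hb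
    rcases Cfsg.Agent.H840.NormX.inv_three hF ha hb hmem hn hinv with h1 | h1 | h1
    · exact ⟨1, one_pow _, Commute.one_right _, by rw [h1]; group⟩
    · refine ⟨a * b, hcube, hh, ?_⟩
      rw [h1, eb]
      calc b = (b * a) * b * (b * a) := by
            rw [show (b * a) * b * (b * a) = b * a * (b * b) * a by group, sqb, mul_one, mul_assoc, sqa, mul_one]
        _ = (b * a * b) * (b * a) := by group
        _ = a * b * a * (b * a) := by rw [hbr]
    · refine ⟨(a * b)⁻¹, by rw [inv_pow, hcube, inv_one], hh.inv_right, ?_⟩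
      rw [h1, inv_inv, eb]
      calc a * b * a = (b * a * b) := hbr
        _ = b * (a * a) * a * b := by rw [sqa, mul_one]
        _ = b * a * a * (a * b) := by group
  obtain ⟨v, hv, hvc, he⟩ := key
  have h2 : Commute (v⁻¹ * h) a := by
    show v⁻¹ * h * a = a * (v⁻¹ * h)
    have h3 : h * a = v * a * v⁻¹ * h := by rw [← he]; group
    rw [mul_assoc, h3]
    group
  have h3 : (v⁻¹ * h) ^ 3 = h ^ 3 := by
    have hc : Commute v⁻¹ h := hvc.symm.inv_left
    rw [hc.mul_pow, inv_pow, hv, inv_one, one_mul]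
  rw [← h3]
  exact h2.pow_left 3

/-- `h ^ 3` is not a product of two noncommuting members -/
theorem cube_ne (hF : FGroup D) {a b h : F} (ha : a ∈ D) (hb : b ∈ D) (hn : ¬ Commute a b)
    (he : h ^ 3 = a * b ∨ h ^ 3 = (a * b)⁻¹) : False := by
  have hh : Commute h (a * b) := by
    rcases he with he | he
    · rw [← he]; exact (Commute.refl h).pow_right 3
    · have : a * b = (h ^ 3)⁻¹ := by rw [he, inv_inv]
      rw [this]; exact ((Commute.refl h).pow_right 3).inv_right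
  have h1 := cube_comm hF ha hb hn hh
  have h2 : Commute (a * b) a := by
    rcases he with he | he
    · rwa [he] at h1
    · rw [he] at h1; exact inv_inv (a * b) ▸ h1.inv_left
  apply hn
  have h3 : a * b * a = a * (a * b) := h2.eq
  rw [mul_assoc] at h3
  exact (mul_left_cancel h3).symm

end

section

variable {F : Type u} [Group F] {L : Set F}

theorem inv_mul_conj {g a : F} (h : Tr L) (ha : a ∈ L) : (g * a * g⁻¹)⁻¹ = g * a * g⁻¹ :=
  h.inv (h.conj g a ha)

/-- an element of odd order which commutes with the products of the pairs of members of `L ∩ C(s)` commutes with a member,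
if two members of `L ∩ C(s)` commute -/
theorem comm_all (h : Tr L) {g t₁ t₂ : F} (ho : Odd (orderOf g)) (h1 : t₁ ∈ L) (h2 : t₂ ∈ L) (hne : t₁ ≠ t₂)
    (hc : Commute t₁ t₂) (hg : Commute g (t₁ * t₂)) : Commute g t₁ := by
  have e1 : (g * t₁ * g⁻¹) * (g * t₂ * g⁻¹) = t₁ * t₂ := by
    rw [show (g * t₁ * g⁻¹) * (g * t₂ * g⁻¹) = g * (t₁ * t₂) * g⁻¹ by group, hg.eq]; group
  have hc' : Commute (g * t₁ * g⁻¹) (g * t₂ * g⁻¹) := by
    show (g * t₁ * g⁻¹) * (g * t₂ * g⁻¹) = (g * t₂ * g⁻¹) * (g * t₁ * g⁻¹)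
    rw [show (g * t₁ * g⁻¹) * (g * t₂ * g⁻¹) = g * (t₁ * t₂) * g⁻¹ by group, hc.eq]; group
  rcases pair_unique h h1 h2 (h.conj g _ h1) (h.conj g _ h2) hc hne hc' e1.symm with ⟨h3, -⟩ | ⟨h3, h4⟩
  · show g * t₁ = t₁ * g
    rw [mul_inv_eq_iff_eq_mul] at h3
    exact h3
  · have h5 : Commute (g ^ 2) t₁ := by
      show g ^ 2 * t₁ = t₁ * g ^ 2
      rw [mul_inv_eq_iff_eq_mul] at h3 h4
      rw [pow_two, mul_assoc, h3, ← mul_assoc, h4, mul_assoc]
    obtain ⟨k, hk⟩ := ho
    have h6 : g = (g ^ 2) ^ (k + 1) := by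
      rw [← pow_mul, show 2 * (k + 1) = 2 * k + 1 + 1 by ring, ← hk, pow_succ, pow_orderOf_eq_one, one_mul]
    rw [h6]
    exact h5.pow_left _

end

/-! ### Counting -/

theorem two_mul_card_le {G : Type u} [Group G] [Finite G] {A B : Subgroup G} (h : A ≤ B) {x : G} (hx : x ∈ B)
    (hx' : x ∉ A) : 2 * Nat.card A ≤ Nat.card B := by
  have e := Subgroup.relIndex_mul_relIndex ⊥ A B bot_le h
  rw [relIndex_bot_left, relIndex_bot_left] at e
  have hB : 0 < Nat.card B := Nat.card_pos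
  have h0 : A.relIndex B ≠ 0 := by
    intro h0
    rw [h0, mul_zero] at e
    omega
  have h1 : A.relIndex B ≠ 1 := by
    intro h1
    exact hx' (Subgroup.relIndex_eq_one.1 h1 hx)
  calc 2 * Nat.card A = Nat.card A * 2 := mul_comm _ _
    _ ≤ Nat.card A * A.relIndex B := Nat.mul_le_mul_left _ (by omega)
    _ = Nat.card B := e

/-! ### `Fi24` -/

open Cfsg.Spor (Fi24)

/-- the transpositions -/
local notation "LL" => (Cfsg.Agent.R08.FiTwentyFour.L : Set Fi24)

theorem card_N {Y : Subgroup Fi24} (hC : Cfsg.Agent.H832.WTwo.Main.Concl LL Y) :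
    Nat.card (normalizer (Y : Set Fi24)) = 612220032 := by
  obtain ⟨h1, ⟨e⟩, -⟩ := hC
  have hG : Nat.card (Matrix.GeneralLinearGroup (Fin 2) (ZMod 3)) = 48 := by
    rw [Matrix.card_GL_field, Fin.prod_univ_two]
    simp [ZMod.card]
  rw [Subgroup.card_eq_card_quotient_mul_card_subgroup (Cfsg.pCore 3 ↥(normalizer (Y : Set Fi24))), h1,
    Nat.card_congr e.toEquiv, Nat.card_prod, hG, Nat.card_perm, Nat.card_eq_fintype_card, Fintype.card_fin]
  norm_num [Nat.factorial]

theorem zpowers_map {G : Type u} [Group G] (x y : G) :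
    (zpowers x).map (MulAut.conj y).toMonoidHom = zpowers (y * x * y⁻¹) := by
  rw [MonoidHom.map_zpowers]
  rfl

/-- the width of the subgroup generated by a conjugate of `X i` or its inverse -/
theorem width_of {s y : Fi24} {i : Fin 5}
    (hc : y * s * y⁻¹ = Cfsg.Agent.H842.ThreeCl.X i ∨ y * s * y⁻¹ = (Cfsg.Agent.H842.ThreeCl.X i)⁻¹) :
    Cfsg.commutingWidth (LL ∩ (Subgroup.centralizer ((zpowers s : Subgroup Fi24) : Set Fi24) : Set Fi24)) =
      Cfsg.Agent.H842.ThreeMain.wd i := by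
  have hfin : Finite Fi24 := Cfsg.Agent.R08.FiTwentyFour.finite_Fi24
  rw [← Cfsg.Agent.H842.ThreeMain.X_width Cfsg.Agent.H49.Four.TEight.fgroup24 i]
  apply Cfsg.Agent.H842.ThreeMain.width_conj (fun g d hd => Cfsg.Agent.R08.FiTwentyFour.conj hd g)
  refine ⟨y, ?_⟩
  rw [zpowers_map]
  rcases hc with h | h
  · rw [h]
  · rw [h, zpowers_inv]

/-- **width two** -/
theorem two_bound {g : Spor.Fi24'} (ho : Odd (orderOf g)) (hD : ∀ d ∈ LL, ¬ Commute (g : Fi24) d)
    {s : Spor.Fi24'} (hs : ∀ x : Spor.Fi24', Commute x g → Commute x s) (hs3 : (s : Fi24) ^ 3 = 1)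
    (hs1 : (s : Fi24) ≠ 1)
    (hw : Cfsg.commutingWidth (LL ∩ (Subgroup.centralizer ((zpowers (s : Fi24) : Subgroup Fi24) : Set Fi24) : Set Fi24)) = 2) :
    Nat.card (centralizer ({g} : Set Spor.Fi24')) ≤ 76527504 := by
  have hfin : Finite Fi24 := Cfsg.Agent.R08.FiTwentyFour.finite_Fi24
  have ho3 : orderOf (s : Fi24) = 3 := orderOf_eq_prime hs3 hs1
  have hcard : Nat.card (zpowers (s : Fi24)) = 3 := by rw [Nat.card_zpowers, ho3]
  have hN := card_N (Cfsg.Agent.H832.WTwo.Main.main Cfsg.Agent.H49.Four.TEight.fgroup24 Cfsg.Agent.H49.Four.TEight.isT8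
    (zpowers (s : Fi24)) hcard hw)
  obtain ⟨t₁, t₂, hP⟩ := Cfsg.Agent.H832.WTwo.Uniq.exists_pair hw
  have c1 : Commute (s : Fi24) t₁ := hP.cx _ (mem_zpowers _)
  have c2 : Commute (s : Fi24) t₂ := hP.cy _ (mem_zpowers _)
  -- the subgroups
  let N : Subgroup Fi24 := normalizer ((zpowers (s : Fi24) : Subgroup Fi24) : Set Fi24)
  let C : Subgroup Fi24 := centralizer ({(s : Fi24)} : Set Fi24)
  let C' : Subgroup Fi24 := C ⊓ commutator Fi24
  let K : Subgroup Fi24 := centralizer ({(g : Fi24)} : Set Fi24) ⊓ commutator Fi24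
  have hsgn : Cfsg.Agent.Fischer.Fi24Final.sgn t₁ = -1 := Cfsg.Agent.R08.FiTwentyFour.sgn_L hP.hx
  have l1 : 2 * Nat.card C ≤ Nat.card N := by
    obtain ⟨j, -, hjj, hj⟩ := Cfsg.Agent.H49.Four.ThreeInv.three_inv24 hs3
    have hmem : ∀ x : Fi24, x ∈ N ↔ x * (s : Fi24) * x⁻¹ = s ∨ x * (s : Fi24) * x⁻¹ = (s : Fi24)⁻¹ := fun x =>
      Cfsg.Agent.H841.Tri.mem_norm_zp hs3 hs1
    have hji : ∀ j : Fi24, j * j = 1 → j⁻¹ = j := fun j h => inv_eq_of_mul_eq_one_left h
    refine two_mul_card_le (x := j) ?_ ((hmem j).2 (Or.inr ?_)) ?_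
    · intro x hx
      exact (hmem x).2 (Or.inl (mul_inv_eq_iff_eq_mul.2 (mem_centralizer_singleton_iff.1 hx)))
    · rw [hji j hjj, hj]
    · intro h
      have h1 : j * (s : Fi24) = s * j := mem_centralizer_singleton_iff.1 h
      have h2 : (s : Fi24) = (s : Fi24)⁻¹ := by
        rw [← hj, h1, mul_assoc, hjj, mul_one]
      have h3 : (s : Fi24) * s = 1 := by
        nth_rewrite 2 [h2]
        exact mul_inv_cancel _
      apply hs1
      rw [pow_succ, pow_two, h3, one_mul] at hs3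
      exact hs3
  have l2 : 2 * Nat.card C' ≤ Nat.card C := by
    refine two_mul_card_le inf_le_left (x := t₁) (mem_centralizer_singleton_iff.2 c1.symm) ?_
    rintro ⟨-, h⟩
    have h' := Cfsg.Agent.R08.FiTwentyFour.mem_commutator_iff.1 h
    rw [hsgn] at h'
    exact absurd h' (by decide)
  have l3 : 2 * Nat.card K ≤ Nat.card C' := by
    refine two_mul_card_le ?_ (x := t₁ * t₂) ?_ ?_
    · rintro x ⟨hx, hx'⟩
      refine ⟨?_, hx'⟩
      have := hs ⟨x, hx'⟩ (Subtype.ext (mem_centralizer_singleton_iff.1 hx))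
      exact mem_centralizer_singleton_iff.2 (congrArg Subtype.val this)
    · exact ⟨mem_centralizer_singleton_iff.2 (c1.mul_right c2).symm,
        Cfsg.Agent.R08.FiTwentyFour.mul_mem_commutator hP.hx hP.hy⟩
    · rintro ⟨h, -⟩
      have ho' : Odd (orderOf (g : Fi24)) := by rwa [← Subgroup.orderOf_coe] at ho
      exact hD _ hP.hx (comm_all Cfsg.Agent.R08.TetFi24A.tr ho' hP.hx hP.hy hP.ne.symm hP.hc
        (show Commute (t₁ * t₂) (g : Fi24) from mem_centralizer_singleton_iff.1 h).symm)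
  have l4 : Nat.card (centralizer ({g} : Set Spor.Fi24')) ≤ Nat.card K := by
    have e1 : Nat.card (centralizer ({g} : Set Spor.Fi24')) =
        Nat.card ((centralizer ({g} : Set Spor.Fi24')).map (commutator Fi24).subtype) :=
      Nat.card_congr ((centralizer ({g} : Set Spor.Fi24')).equivMapOfInjective _
        (Subgroup.subtype_injective _)).toEquiv
    rw [e1]
    apply Subgroup.card_le_of_le
    rintro _ ⟨x, hx, rfl⟩
    refine ⟨?_, x.2⟩
    have hx' : x * g = g * x := mem_centralizer_singleton_iff.1 hx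
    exact mem_centralizer_singleton_iff.2 (congrArg Subtype.val hx')
  have hN' : Nat.card N = 612220032 := hN
  omega

/-- **width eight** -/
theorem zero_false {h y : Fi24} (hc : y * h ^ 3 * y⁻¹ = Cfsg.Agent.H842.ThreeCl.X 0 ∨
    y * h ^ 3 * y⁻¹ = (Cfsg.Agent.H842.ThreeCl.X 0)⁻¹) : False := by
  have hfin : Finite Fi24 := Cfsg.Agent.R08.FiTwentyFour.finite_Fi24
  have e1 : (y * h * y⁻¹) ^ 3 = y * h ^ 3 * y⁻¹ := conj_pow
  rw [← e1] at hc
  exact cube_ne (Cfsg.Agent.H49.Four.TEight.fgroup24) (Cfsg.Agent.R08.FiTwentyFour.gen_mem_L _)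
    (Cfsg.Agent.R08.FiTwentyFour.gen_mem_L _) Cfsg.Agent.H840.Lk.not_comm_lk hc

end Cfsg.Agent.H48.OreFi.NineA
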