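import Cfsg.Agent.H48.OreFi.RowFin
import Cfsg.Agent.H48.OreFi.WOne
import Cfsg.Agent.H48.OreFi.WFour
import Cfsg.Agent.H597.OreFi.NineB
import Cfsg.Agent.H822.Ore.Fi23Ore

/-!
# The row `Fi24'` of the Ore conjecture (S2443): every element is a commutator (helper48)
-/

set_option autoImplicit false

namespace Cfsg.Agent.H48.OreFi

open Cfsg Cfsg.Agent.H777.Ore

/-- **every element of `Fi24'` is a commutator** -/
theorem allC : AllC Spor.Fi24' :=
  allC_fin (Cfsg.Agent.H822.Ore.Fi23Ore.ore_fi23 ⟨MulEquiv.refl _⟩) WOne.wd_one Cfsg.Agent.H597.OreFi.NineB.wd_two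
    Cfsg.Agent.H48.WFour.wd_four

/-- **the Ore conjecture for `Fi24'`** -/
theorem ore_fi24' {S : Type*} [Group S] (h : Spor.IsoFi24' S) : AllC S := by
  obtain ⟨e⟩ := h
  intro g
  obtain ⟨a, b, hab⟩ := allC (e g)
  refine ⟨e.symm a, e.symm b, ?_⟩
  rw [← e.symm_apply_apply g, hab]
  simp only [map_mul, map_inv]

end Cfsg.Agent.H48.OreFi
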