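import Cfsg.Agent.H48.OreFi.RowFin
import Cfsg.Agent.H48.OreFi.WOne
import Cfsg.Agent.H48.OreFi.WFour
import Cfsg.Agent.H597.OreFi.NineB

/-!
# `Fi24'`: the case split, for a general predicate (helper48)

* `nine` : an element of order 9 or 27 commutes with a transposition or `|C(g)| ≤ 78382080`;
* `three` : an element of order 3 commutes with a transposition or is conjugate to `X 4` or its inverse;
* `all_of` : a predicate holds for all elements if it holds for `|C(g)| ≤ 78382080`, for the 2-elements, for the elements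
  commuting with a transposition and for the class of `X 4`.
-/

set_option autoImplicit false
set_option maxRecDepth 100000

namespace Cfsg.Agent.H48.OreFi.PForm

open Subgroup
open Cfsg Cfsg.Agent.H48.OreFi
open Cfsg.Agent.R08.FiTwentyFour (L)
open Cfsg.Agent.H842.ThreeCl (X)
open Cfsg.Spor (Fi24)

theorem pos_width {D : Set Fi24} (h : Cfsg.commutingWidth D ≠ 0) : ∃ d, d ∈ D := by
  by_contra hcon
  push Not at hcon
  apply h
  rw [Set.eq_empty_iff_forall_notMem.2 hcon, Cfsg.commutingWidth]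
  apply Nat.eq_zero_of_le_zero
  apply csSup_le'
  rintro n ⟨E, hE, -, -, rfl⟩
  rw [Set.subset_empty_iff.1 hE, Set.ncard_empty]

/-- **order 3** -/
theorem three {s : Fi24} (h3 : s ^ 3 = 1) (h1 : s ≠ 1) :
    (∃ d ∈ L, Commute s d) ∨ ∃ y : Fi24, y * s * y⁻¹ = X 4 ∨ y * s * y⁻¹ = (X 4)⁻¹ := by
  obtain ⟨i, y, hy⟩ := Cfsg.Agent.H842.ThreeCl.all Cfsg.Agent.H49.Four.TEight.fgroup24'
    Cfsg.Agent.H49.Four.TEight.isT8 h3 h1
  by_cases hi : i = 4
  · right
    rw [hi] at hy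
    exact ⟨y, hy⟩
  · left
    have h0 : Cfsg.Agent.H842.ThreeMain.wd i ≠ 0 :=
      (show ∀ i : Fin 5, i ≠ 4 → Cfsg.Agent.H842.ThreeMain.wd i ≠ 0 by decide) i hi
    rw [← NineA.width_of hy] at h0
    obtain ⟨d, hd, hc⟩ := pos_width h0
    exact ⟨d, hd, mem_centralizer_iff.1 hc s (mem_zpowers s)⟩

/-- **orders 9 and 27** -/
theorem nine (g : Spor.Fi24') (b : ℕ) (hb : 2 ≤ b) (hg : orderOf g = 3 ^ b) :
    (∃ d ∈ L, Commute (g : Fi24) d) ∨ Nat.card (centralizer ({g} : Set Spor.Fi24')) ≤ 78382080 := by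
  by_cases hD : ∃ d ∈ L, Commute (g : Fi24) d
  · exact Or.inl hD
  · right
    push Not at hD
    obtain ⟨s, hs⟩ : ∃ s, s = g ^ 3 ^ (b - 1) := ⟨_, rfl⟩
    have ho : orderOf s = 3 := by
      rw [hs, orderOf_pow, hg]
      obtain ⟨c, rfl⟩ : ∃ c, b = c + 1 := ⟨b - 1, by omega⟩
      rw [Nat.add_sub_cancel, Nat.gcd_eq_right (pow_dvd_pow 3 (Nat.le_succ c)), pow_succ,
        Nat.mul_div_cancel_left _ (by positivity)]
    have hs3' : s ^ 3 = 1 := by rw [← ho]; exact pow_orderOf_eq_one s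
    have hs3 : (s : Fi24) ^ 3 = 1 := congrArg Subtype.val hs3'
    have hs1' : s ≠ 1 := by rintro h; rw [h, orderOf_one] at ho; omega
    have hs1 : (s : Fi24) ≠ 1 := fun h => hs1' (Subtype.ext h)
    have e1 : (s : Fi24) = ((g ^ 3 ^ (b - 2) : Spor.Fi24') : Fi24) ^ 3 := by
      rw [hs]
      show (g : Fi24) ^ 3 ^ (b - 1) = ((g : Fi24) ^ 3 ^ (b - 2)) ^ 3
      rw [← pow_mul, ← pow_succ]
      congr 2
      omega
    obtain ⟨i, y, hy⟩ := Cfsg.Agent.H842.ThreeCl.all Cfsg.Agent.H49.Four.TEight.fgroup24' Cfsg.Agent.H49.Four.TEight.isT8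
      hs3 hs1
    have hi : ∀ i : Fin 5, i = 0 ∨ i = 1 ∨ i = 2 ∨ i = 3 ∨ i = 4 := by decide
    rcases hi i with rfl | rfl | rfl | rfl | rfl
    · exfalso
      rw [e1] at hy
      exact NineA.zero_false hy
    · exact WOne.wd_one g s b hb hg hs hD ⟨y, hy⟩
    · exact Cfsg.Agent.H597.OreFi.NineB.wd_two g s b hb hg hs hD ⟨y, hy⟩
    · refine (NineA.two_bound ?_ hD (s := s) ?_ hs3 hs1 ?_).trans (by norm_num)
      · rw [hg]; exact Odd.pow (by decide)
      · intro x hx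
        rw [hs]; exact hx.pow_right _
      · rw [NineA.width_of hy]; rfl
    · exfalso
      rw [e1] at hy
      exact Cfsg.Agent.H48.WFour.no_cube hy

/-- **the frame** -/
theorem all_of {P : Spor.Fi24' → Prop}
    (hb : ∀ g : Spor.Fi24', Nat.card (centralizer ({g} : Set Spor.Fi24')) ≤ 78382080 → P g)
    (h2 : ∀ (g : Spor.Fi24') (n : ℕ), g ^ 2 ^ n = 1 → P g)
    (hf : ∀ (g : Spor.Fi24') (d : Fi24), d ∈ L → Commute (g : Fi24) d → P g)
    (h4 : ∀ (g : Spor.Fi24') (y : Fi24), y * (g : Fi24) * y⁻¹ = X 4 ∨ y * (g : Fi24) * y⁻¹ = (X 4)⁻¹ → P g)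
    (g : Spor.Fi24') : P g := by
  refine cases' (P := P) hb h2 (fun g hg => ?_) (fun g b hb' hg => ?_) (bound_zs bdA) g
  · by_cases h1 : g = 1
    · rw [h1]
      exact h2 1 0 (one_pow _)
    · rcases three (s := (g : Fi24)) (congrArg Subtype.val hg) (fun h => h1 (Subtype.ext h)) with ⟨d, hd, hc⟩ | ⟨y, hy⟩
      · exact hf g d hd hc
      · exact h4 g y hy
  · rcases nine g b hb' hg with ⟨d, hd, hc⟩ | h
    · exact hf g d hd hc
    · exact hb g h

end Cfsg.Agent.H48.OreFi.PForm
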