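import Cfsg.Agent.H48.OreFi.Nine
import Cfsg.Agent.H26.Ore.Fi24Deg
import Cfsg.Agent.H868.Ore.Fi24A

/-!
# The row `Fi24'` of the Ore conjecture: final form (helper48, for S2443)
-/

set_option autoImplicit false

namespace Cfsg.Agent.H48.OreFi

open Cfsg Cfsg.Agent.H777.Ore
open Cfsg.Agent.H48.OreFi.Nine (Wd)

theorem bdA : BdA := fun _ _ _ _ ha hb hne hab hz hs hzs =>
  Cfsg.Agent.H868.Ore.Fi24A.bd ha hb hne hab hz hs hzs

/-- the row, given the orders 9 and 27 over the widths 6, 5, 0 and the row `Fi23` -/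
theorem allC_fin (h23 : AllC Spor.Fi23) (h1 : Wd 1) (h2 : Wd 2) (h4 : Wd 4) : AllC Spor.Fi24' :=
  allC_of bdA (Nine.h9_of h23 h1 h2 h4) (DN := 57477) (DX := 125120) (by norm_num) (by norm_num)
    Cfsg.Agent.H26.Ore.Fi24Deg.hDN Cfsg.Agent.H26.Ore.Fi24Deg.hDX

end Cfsg.Agent.H48.OreFi
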